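import Groth.Agent.SmoothStrat.Global

/-!
# Sections of completely decomposed morphisms over strata
-/

set_option autoImplicit false
set_option linter.style.haveILetI false
universe u
open CategoryTheory CategoryTheory.Limits AlgebraicGeometry TopologicalSpace Topology Opposite

noncomputable section

namespace SmoothStrat

open RichLib.Strata

/-- Homomorphisms from finitely presented algebras into a residue field descend to a stratum. -/
theorem exists_algHom_stratum {A : Type u} [CommRing A] (q : Ideal A) [q.IsPrime] {B : Type u} [CommRing B]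
    [Algebra A B] [Algebra.FinitePresentation A B] (φ : B →ₐ[A] q.ResidueField) :
    ∃ k : Idx A q, Nonempty (B →ₐ[A] k.B) := by
  classical
  obtain ⟨n, π, hπ, hker⟩ := Algebra.FinitePresentation.out (R := A) (A := B)
  choose ks ys hys using fun i : Fin n => exists_toResidueField_eq A q (φ (π (MvPolynomial.X i)))
  obtain ⟨k₀, hk₀⟩ := Finite.exists_le ks
  let toRes : ∀ k : Idx A q, k.B →ₐ[A] q.ResidueField := fun k =>
    { toRingHom := toResidueField k, commutes' := fun a => toResidueField_mk k a }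
  let tr : ∀ {k l : Idx A q}, k ≤ l → (k.B →ₐ[A] l.B) := fun {k l} h =>
    { toRingHom := transition h, commutes' := fun a => transition_mk h a }
  let ψ₀ : MvPolynomial (Fin n) A →ₐ[A] k₀.B := MvPolynomial.aeval fun i => tr (hk₀ i) (ys i)
  have hψ₀ : ∀ P, toRes k₀ (ψ₀ P) = φ (π P) := fun P => AlgHom.congr_fun
    (MvPolynomial.algHom_ext (f := (toRes k₀).comp ψ₀) (g := φ.comp π) fun i => by
      simp only [AlgHom.comp_apply, ψ₀, MvPolynomial.aeval_X]
      exact (toResidueField_transition A q (hk₀ i) (ys i)).trans (hys i)) P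
  obtain ⟨G, hG⟩ := hker
  choose ms hms hms0 using fun g : G => exists_transition_eq_zero A q (ψ₀ g.1) (by
    refine (hψ₀ g.1).trans ?_
    rw [show π g.1 = 0 from hG.le (Ideal.subset_span g.2), map_zero])
  obtain ⟨m, hm⟩ := Finite.exists_le (fun o : Option G => o.elim k₀ ms)
  have hk₀m : k₀ ≤ m := hm none
  let ψ₁ : MvPolynomial (Fin n) A →ₐ[A] m.B := (tr hk₀m).comp ψ₀
  have hle : RingHom.ker π ≤ RingHom.ker ψ₁ := by
    refine hG ▸ Ideal.span_le.mpr fun g hg => ?_
    show transition hk₀m (ψ₀ g) = 0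
    rw [transition_trans A q (hms ⟨g, hg⟩) (hm (some ⟨g, hg⟩)), hms0 ⟨g, hg⟩, map_zero]
  exact ⟨m, ⟨AlgHom.liftOfSurjective π hπ ψ₁ hle⟩⟩

variable {X S : Scheme.{u}}

/-- A piece through a point over which a completely decomposed morphism has a section. -/
theorem exists_section_piece (f : X ⟶ S) [LocallyOfFinitePresentation f] [CompactSpace S] [QuasiSeparatedSpace S]
    (x : X) (hx : Function.Bijective (f.residueFieldMap x)) :
    ∃ (W : S.affineOpens) (E : S.IdealSheafData), (∀ V, (E.ideal V).FG) ∧ f x ∈ W.1 ∧ f x ∈ E.support ∧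
      IsConstructible ((W.1 : Set S) ∩ E.support) ∧
      ∃ l : (piece W.1 E).toScheme ⟶ X, l ≫ f = pieceι W.1 E := by
  classical
  obtain ⟨U, hU, hsU, -⟩ := exists_isAffineOpen_mem_and_subset (X := S) (x := f x) (U := ⊤) trivial
  obtain ⟨V, hV, hxV, hVU⟩ := exists_isAffineOpen_mem_and_subset (X := X) (x := x) (U := f ⁻¹ᵁ U) hsU
  let q := hU.primeIdealOf ⟨f x, hsU⟩
  let h : Spec (CommRingCat.of q.asIdeal.ResidueField) ⟶ S := pointι q.asIdeal ≫ hU.fromSpec
  have hh : h.base (IsLocalRing.closedPoint _) = f x := by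
    rw [Scheme.Hom.comp_apply, pointι_apply]
    exact hU.fromSpec_primeIdealOf ⟨f x, hsU⟩
  haveI : IsIso (f.residueFieldMap x) := (ConcreteCategory.isIso_iff_bijective _).mpr hx
  have hσ : (Spec.map (inv (f.residueFieldMap x)) ≫ X.fromSpecResidueField x) ≫ f =
      S.fromSpecResidueField (f x) := by
    rw [Category.assoc, ← Scheme.Hom.SpecMap_residueFieldMap_fromSpecResidueField, ← Spec.map_comp_assoc,
      IsIso.hom_inv_id, Spec.map_id, Category.id_comp]
  obtain ⟨δ, hδ⟩ : ∃ δ, δ ≫ S.fromSpecResidueField (f x) = h := by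
    rw [← hh]
    exact ⟨_, Scheme.descResidueField_stalkClosedPointTo_fromSpecResidueField _ S h⟩
  let σ : Spec (CommRingCat.of q.asIdeal.ResidueField) ⟶ X :=
    δ ≫ Spec.map (inv (f.residueFieldMap x)) ≫ X.fromSpecResidueField x
  have hσ' : σ ≫ f = h := by rw [Category.assoc, hσ, hδ]
  let σV := IsOpenImmersion.lift hV.fromSpec σ (by
    rw [hV.range_fromSpec]
    rintro _ ⟨p, rfl⟩
    rw [Scheme.Hom.comp_apply, Scheme.Hom.comp_apply, Scheme.fromSpecResidueField_apply]
    exact hxV)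
  have hσV : σV ≫ hV.fromSpec = σ := IsOpenImmersion.lift_fac _ _ _
  algebraize [(f.appLE U V hVU).hom]
  haveI : Algebra.FinitePresentation Γ(S, U) Γ(X, V) := f.finitePresentation_appLE hU hV hVU
  obtain ⟨φ, hφ⟩ := Spec.map_surjective σV
  have hcomm : f.appLE U V hVU ≫ φ = CommRingCat.ofHom (algebraMap Γ(S, U) q.asIdeal.ResidueField) := by
    apply Spec.map_injective
    rw [Spec.map_comp, ← cancel_mono hU.fromSpec, Category.assoc, IsAffineOpen.SpecMap_appLE_fromSpec f hU hV hVU,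
      reassoc_of% hφ, reassoc_of% hσV, hσ']
  let φ' : Γ(X, V) →ₐ[Γ(S, U)] q.asIdeal.ResidueField :=
    { toRingHom := φ.hom, commutes' := fun a => congr($(hcomm).hom a) }
  obtain ⟨k, ⟨ψ⟩⟩ := exists_algHom_stratum q.asIdeal φ'
  obtain ⟨W, E, hE, hsW, hsE, hC, r, hr⟩ := exists_piece_stratum hU ⟨f x, hsU⟩ k
  refine ⟨W, E, hE, hsW, hsE, hC, r ≫ Spec.map (CommRingCat.ofHom ψ.toRingHom) ≫ hV.fromSpec, ?_⟩
  have key : Spec.map (CommRingCat.ofHom (R := Γ(X, V)) (S := k.B) ψ.toRingHom) ≫ Spec.map (f.appLE U V hVU) =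
      (psys q.asIdeal).t (op k) := by
    rw [psys_t, ← Spec.map_comp]
    exact congrArg Spec.map (CommRingCat.hom_ext ψ.comp_algebraMap)
  rw [Category.assoc, Category.assoc, ← IsAffineOpen.SpecMap_appLE_fromSpec f hU hV hVU]
  refine Eq.trans ?_ hr
  refine congrArg (r ≫ ·) ?_
  exact (Category.assoc _ _ _).symm.trans (congrArg (· ≫ hU.fromSpec) key)

/-- Finitely many pieces cover the base with sections over each. -/
theorem exists_sections (f : X ⟶ S) [LocallyOfFinitePresentation f] [CompactSpace S] [QuasiSeparatedSpace S]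
    (hcd : ∀ y : S, ∃ x : X, f x = y ∧ Function.Bijective (f.residueFieldMap x)) :
    ∃ (n : ℕ) (Z : Fin n → Scheme.{u}) (z : ∀ i, Z i ⟶ S), (∀ y : S, ∃ i, y ∈ Set.range ⇑(z i)) ∧
      ∀ i, IsImmersion (z i) ∧ LocallyOfFinitePresentation (z i) ∧ QuasiCompact (z i) ∧ QuasiSeparated (z i) ∧
        ∃ s : Z i ⟶ pullback f (z i), s ≫ pullback.snd f (z i) = 𝟙 (Z i) := by
  classical
  choose x hx hbij using hcd
  choose W E hE hsW hsE hC l hl using fun y => exists_section_piece f (x y) (hbij y)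
  obtain ⟨G, hG⟩ := WeightLib.exists_finset_cover (fun y => ((W y).1 : Set S) ∩ (E y).support) hC
    fun y => ⟨y, (congrArg (· ∈ (W y).1) (hx y)).mp (hsW y), (congrArg (· ∈ (E y).support) (hx y)).mp (hsE y)⟩
  let σ := G.equivFin.symm
  refine ⟨G.card, fun j => (piece (W (σ j)).1 (E (σ j))).toScheme, fun j => pieceι _ _, fun y => ?_, fun j => ?_⟩
  · obtain ⟨s, hs, h1, h2⟩ := hG y
    have hy : y ∈ Set.range (pieceι (W s).1 (E s)).base := by
      rw [Scheme.Hom.comp_base, TopCat.coe_comp, Set.range_comp, Scheme.Opens.range_ι]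
      obtain ⟨w, hw⟩ : y ∈ Set.range (E s).subschemeι.base := by rw [(E s).range_subschemeι]; exact h2
      exact ⟨w, show (E s).subschemeι.base w ∈ (W s).1 from hw ▸ h1, hw⟩
    refine ⟨G.equivFin ⟨s, hs⟩, ?_⟩
    show y ∈ Set.range (pieceι (W (σ (G.equivFin ⟨s, hs⟩))).1 (E (σ (G.equivFin ⟨s, hs⟩)))).base
    rw [show σ (G.equivFin ⟨s, hs⟩) = ⟨s, hs⟩ from Equiv.symm_apply_apply _ _]
    exact hy
  · haveI : IsAffine (piece (W (σ j)).1 (E (σ j))).toScheme := (W (σ j)).2.preimage (E (σ j)).subschemeι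
    haveI := lfp_subschemeι (E (σ j)) (hE _)
    exact ⟨inferInstance, inferInstance, inferInstance, inferInstance,
      pullback.lift (l (σ j)) (𝟙 _) (by rw [hl, Category.id_comp]), pullback.lift_snd _ _ _⟩

end SmoothStrat
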