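import Groth.Agent.SmoothStrat.Atoms
import Groth.Prelude.Def_Mor2
import Mathlib.AlgebraicGeometry.Morphisms.Smooth
import Mathlib.AlgebraicGeometry.Morphisms.UniversallyInjective
import Mathlib.AlgebraicGeometry.Morphisms.FinitePresentation

/-!
# Strata of ideal sheaves of finite type and their base change
-/

set_option autoImplicit false
set_option linter.style.haveILetI false
universe u
open CategoryTheory CategoryTheory.Limits AlgebraicGeometry TopologicalSpace Topology

noncomputable section

namespace SmoothStrat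

variable {X S : Scheme.{u}}

theorem lfp_subschemeι (I : S.IdealSheafData) (h : ∀ V, (I.ideal V).FG) :
    LocallyOfFinitePresentation I.subschemeι := by
  refine IsZariskiLocalAtSource.of_openCover I.subschemeCover.openCover fun U => ?_
  show LocallyOfFinitePresentation (I.subschemeCover.f U ≫ I.subschemeι)
  rw [Scheme.IdealSheafData.subschemeCover_map_subschemeι, Scheme.IdealSheafData.glueDataObjι_ι]
  haveI : IsOpenImmersion U.2.fromSpec := IsAffineOpen.isOpenImmersion_fromSpec U.2
  have this : LocallyOfFinitePresentation (Spec.map (CommRingCat.ofHom (Ideal.Quotient.mk (I.ideal U)))) := by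
    rw [HasRingHomProperty.Spec_iff (P := @LocallyOfFinitePresentation)]
    exact RingHom.FinitePresentation.of_surjective _ Ideal.Quotient.mk_surjective
      ((Ideal.mk_ker (I := I.ideal U)).symm ▸ h U)
  exact MorphismProperty.comp_mem _ _ _ this inferInstance

theorem fg_ker {Z : Scheme.{u}} (i : Z ⟶ S) [IsClosedImmersion i] [LocallyOfFinitePresentation i]
    (V : S.affineOpens) : (i.ker.ideal V).FG := by
  rw [Scheme.Hom.ker_apply]
  have hfp : (i.app V.1).hom.FinitePresentation := by
    rw [Scheme.Hom.app_eq_appLE]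
    exact i.finitePresentation_appLE V.2 (V.2.preimage i) le_rfl
  algebraize [(i.app V.1).hom]
  exact Algebra.FinitePresentation.ker_fG_of_surjective
    (Algebra.ofId Γ(S, V.1) Γ(Z, i ⁻¹ᵁ V.1)) (i.app_surjective V.1 V.2)

theorem fg_comap (I : S.IdealSheafData) (h : ∀ V, (I.ideal V).FG) (m : X ⟶ S) (V : X.affineOpens) :
    ((I.comap m).ideal V).FG := by
  haveI := lfp_subschemeι I h
  haveI : LocallyOfFinitePresentation (pullback.fst m I.subschemeι) := inferInstance
  exact fg_ker (pullback.fst m I.subschemeι) V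

theorem isCompact_of_isConstructible {Z : Scheme.{u}} [CompactSpace Z] [QuasiSeparatedSpace Z]
    {K : Set Z} (hK : IsConstructible K) : IsCompact K := by
  haveI : Nonempty Z.affineOpens := ⟨⟨⊥, isAffineOpen_bot Z⟩⟩
  induction K, hK using IsConstructible.induction_of_isTopologicalBasis
    (fun U : Z.affineOpens ↦ (U.1 : Set Z)) with
  | basis =>
    have h := Z.isBasis_affineOpens
    rw [TopologicalSpace.Opens.IsBasis] at h
    convert h using 1
    ext t
    constructor
    · rintro ⟨U, rfl⟩; exact ⟨U.1, U.2, rfl⟩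
    · rintro ⟨U, hU, rfl⟩; exact ⟨⟨U, hU⟩, rfl⟩
  | isCompact_basis U => exact U.2.isCompact
  | sdiff U s hs => exact U.2.isCompact.diff (isOpen_biUnion fun V _ ↦ V.1.isOpen)
  | union s hs t ht hs' ht' => exact hs'.union ht'

theorem isConstructible_support [CompactSpace S] [QuasiSeparatedSpace S] (I : S.IdealSheafData)
    (h : ∀ V, (I.ideal V).FG) : IsConstructible (I.support : Set S) := by
  haveI := lfp_subschemeι I h
  have := Scheme.Hom.isConstructible_image I.subschemeι IsConstructible.univ
  rw [Set.image_univ] at this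
  rwa [I.range_subschemeι] at this

theorem compactSpace_stratum [CompactSpace S] [QuasiSeparatedSpace S] (I J : S.IdealSheafData)
    (hJ : ∀ V, (J.ideal V).FG) : CompactSpace (stratum I J).toScheme := by
  refine isCompact_iff_compactSpace.mp ?_
  exact I.subschemeι.isCompact_preimage (U := J.support.compl)
    (isCompact_of_isConstructible (isConstructible_support J hJ).compl)

theorem lfp_stratumι (I J : S.IdealSheafData) (hI : ∀ V, (I.ideal V).FG) :
    LocallyOfFinitePresentation (stratumι I J) := by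
  haveI := lfp_subschemeι I hI
  infer_instance

/-- Strata commute with base change. -/
theorem isPullback_stratum {S' : Scheme.{u}} (m : S' ⟶ S) (I J : S.IdealSheafData) :
    ∃ a : (stratum (I.comap m) (J.comap m)).toScheme ⟶ (stratum I J).toScheme,
      IsPullback a (stratumι (I.comap m) (J.comap m)) (stratumι I J) m := by
  let μ := Scheme.IdealSheafData.subschemeMap _ _ m (I.le_map_comap m)
  have h1 : IsPullback μ (I.comap m).subschemeι I.subschemeι m :=
    (IsPullback.of_hasPullback m I.subschemeι).flip.of_iso (I.comapIso m).symm (Iso.refl _)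
      (Iso.refl _) (Iso.refl _)
      (by simp [μ, ← Scheme.IdealSheafData.comapIso_hom_snd]) (by simp) (by simp) (by simp)
  have hμ : μ ≫ I.subschemeι = (I.comap m).subschemeι ≫ m :=
    Scheme.IdealSheafData.subschemeMap_subschemeι _ _ _ _
  have heq : stratum (I.comap m) (J.comap m) = μ ⁻¹ᵁ stratum I J := by
    show (I.comap m).subschemeι ⁻¹ᵁ (J.comap m).support.compl = μ ⁻¹ᵁ I.subschemeι ⁻¹ᵁ J.support.compl
    rw [← Scheme.Hom.comp_preimage, hμ, Scheme.Hom.comp_preimage, Scheme.IdealSheafData.support_comap]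
    rfl
  rw [stratumι, stratumι, heq]
  exact ⟨μ ∣_ stratum I J, (isPullback_morphismRestrict μ (stratum I J)).paste_vert h1⟩

/-- A chain of ideals of finite type with smooth strata. -/
def HasStrat {Y T : Scheme.{u}} (π : Y ⟶ T) : Prop :=
  ∃ (t : ℕ) (J : Fin (t + 1) → Y.IdealSheafData), Monotone J ∧ J (Fin.last t) = ⊤ ∧
    ((J 0).support : Set ↑Y) = Set.univ ∧ (∀ j, ∀ O : Y.affineOpens, ((J j).ideal O).FG) ∧
    ∀ j : Fin t, Smooth (((J j.castSucc).subschemeι ⁻¹ᵁ (J j.succ).support.compl).ι ≫
      (J j.castSucc).subschemeι ≫ π)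

theorem HasStrat.of_isPullback {Y T Y' T' : Scheme.{u}} {π : Y ⟶ T} (h : HasStrat π) {m : Y' ⟶ Y}
    {π' : Y' ⟶ T'} {p : T' ⟶ T} (hm : IsPullback m π' π p) : HasStrat π' := by
  obtain ⟨t, J, hmono, htop, h0, hfg, hsm⟩ := h
  refine ⟨t, fun j => (J j).comap m,
    fun a c hac => Scheme.IdealSheafData.comap_mono m (hmono hac), ?_, ?_,
    fun j O => fg_comap (J j) (hfg j) m O, fun j => ?_⟩
  · show (J (Fin.last t)).comap m = ⊤
    rw [htop, ← Scheme.IdealSheafData.support_eq_bot_iff, Scheme.IdealSheafData.support_comap,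
      Scheme.IdealSheafData.support_top]
    rfl
  · show (((J 0).comap m).support : Set ↥Y') = Set.univ
    rw [Scheme.IdealSheafData.support_comap, TopologicalSpace.Closeds.coe_preimage, h0, Set.preimage_univ]
  · obtain ⟨a, ha⟩ := isPullback_stratum m (J j.castSucc) (J j.succ)
    have := ha.paste_vert hm
    have h2 : Smooth (stratumι (J j.castSucc) (J j.succ) ≫ π) := by
      simpa only [Category.assoc] using hsm j
    simpa only [Category.assoc] using MorphismProperty.of_isPullback (P := @Smooth) this h2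

/-- A smooth stratification over a finite locally free radicial cover of `B`. -/
def Data {B : Scheme.{u}} (f : X ⟶ S) (b : B ⟶ S) : Prop :=
  ∃ (T : Scheme.{u}) (v : T ⟶ B), Surjective v ∧ UniversallyInjective v ∧ Mor2.IsFinLocFree v ∧
    HasStrat (pullback.snd f (v ≫ b))

theorem Data.baseChange {B B' : Scheme.{u}} {f : X ⟶ S} {b : B ⟶ S} (h : Data f b) (r : B' ⟶ B) :
    Data f (r ≫ b) := by
  obtain ⟨T, v, hsurj, hui, ⟨hfin, hflat, hlfp⟩, hs⟩ := h
  let v' := pullback.snd v r
  let p := pullback.fst v r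
  have hp : p ≫ v = v' ≫ r := pullback.condition
  let m : pullback f (v' ≫ r ≫ b) ⟶ pullback f (v ≫ b) :=
    pullback.lift (pullback.fst _ _) (pullback.snd _ _ ≫ p)
      (by rw [pullback.condition, Category.assoc, reassoc_of% hp])
  have hm : IsPullback m (pullback.snd f (v' ≫ r ≫ b)) (pullback.snd f (v ≫ b)) p :=
    IsPullback.of_right (h₁₂ := pullback.fst f (v ≫ b)) (v₁₃ := f) (h₂₂ := v ≫ b)
      (by rw [pullback.lift_fst, reassoc_of% hp]; exact IsPullback.of_hasPullback _ _)
      (pullback.lift_snd _ _ _) (IsPullback.of_hasPullback _ _)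
  exact ⟨pullback v r, v', inferInstance, MorphismProperty.pullback_snd v r hui,
    ⟨inferInstance, inferInstance, inferInstance⟩, hs.of_isPullback hm⟩

theorem Data.of_pullback_snd {S' B : Scheme.{u}} {f : X ⟶ S} {j : S' ⟶ S} {b : B ⟶ S'}
    (h : Data (pullback.snd f j) b) : Data f (b ≫ j) := by
  obtain ⟨T, v, hsurj, hui, hflf, hs⟩ := h
  have hP : IsPullback (pullback.fst (pullback.snd f j) (v ≫ b) ≫ pullback.fst f j)
      (pullback.snd (pullback.snd f j) (v ≫ b)) f (v ≫ b ≫ j) := by
    rw [← Category.assoc v b j]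
    exact (IsPullback.of_hasPullback _ _).paste_horiz (IsPullback.of_hasPullback _ _)
  refine ⟨T, v, hsurj, hui, hflf, hs.of_isPullback (m := hP.isoPullback.inv) (p := 𝟙 T) ?_⟩
  exact IsPullback.of_horiz_isIso ⟨by simp⟩

theorem HasStrat.of_isEmpty {Y T : Scheme.{u}} (π : Y ⟶ T) [IsEmpty Y] : HasStrat π :=
  ⟨0, fun _ => ⊤, fun _ _ _ => le_rfl, rfl, Set.eq_univ_of_forall fun y => isEmptyElim y,
    fun _ O => Submodule.fg_def.mpr ⟨{1}, Set.finite_singleton 1, by simp⟩, fun j => j.elim0⟩

theorem Data.of_isEmpty {B : Scheme.{u}} (f : X ⟶ S) (b : B ⟶ S) [IsEmpty B] : Data f b :=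
  haveI : IsEmpty ↥(pullback f (𝟙 B ≫ b)) :=
    Function.isEmpty (fun y => (pullback.snd f (𝟙 B ≫ b)).base y : _ → B)
  ⟨B, 𝟙 B, inferInstance, inferInstance, ⟨inferInstance, inferInstance, inferInstance⟩, .of_isEmpty _⟩

end SmoothStrat
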