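import Groth.Agent.SmoothStrat.Atoms

/-!
# A stratification refining finitely many pieces
-/

set_option autoImplicit false
universe u
open CategoryTheory CategoryTheory.Limits AlgebraicGeometry TopologicalSpace

noncomputable section

namespace SmoothStrat

variable {S : Scheme.{u}}

/-- Finitely many locally closed pieces covering the space are refined by the strata of a chain of
ideal sheaves of finite type. -/
theorem exists_stratification_of_pieces [CompactSpace S] [QuasiSeparatedSpace S] {n : ℕ}
    (W : Fin n → S.affineOpens) (E : Fin n → S.IdealSheafData) (hE : ∀ j V, ((E j).ideal V).FG)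
    (hcov : ∀ z : S, ∃ j, z ∈ (W j).1 ∧ z ∈ (E j).support) :
    ∃ (t : ℕ) (I : Fin (t + 1) → S.IdealSheafData), Monotone I ∧ I (Fin.last t) = ⊤ ∧
      ((I 0).support : Set S) = Set.univ ∧ (∀ i, ∀ U : S.affineOpens, ((I i).ideal U).FG) ∧
      ∀ i : Fin t, IsEmpty (stratum (I i.castSucc) (I i.succ)).toScheme ∨
        ∃ (j : Fin n) (r : (stratum (I i.castSucc) (I i.succ)).toScheme ⟶ (piece (W j).1 (E j)).toScheme),
          r ≫ pieceι (W j).1 (E j) = stratumι (I i.castSucc) (I i.succ) := by
  classical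
  choose D hD hDs using fun j => exists_fg_compl (W j).1 (W j).2.isCompact
  let E' : Fin n ⊕ Fin n → S.IdealSheafData := Sum.elim E D
  refine ⟨len (κ := Fin n ⊕ Fin n), fun i => chain E' i, fun a b h => chain_mono E' h, chain_len E',
    support_chain_zero E', fun i U => chain_fg E' (fun k => ?_) i U, fun i => ?_⟩
  · rcases k with j | j
    · exact hE j
    · exact hD j
  rcases isEmpty_or_nonempty (stratum (chain E' (i : ℕ)) (chain E' ((i : ℕ) + 1))).toScheme with h | h
  · exact Or.inl h
  refine Or.inr ?_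
  let tS := stratumι (chain E' (i : ℕ)) (chain E' ((i : ℕ) + 1))
  have hord : ∀ ζ, ord (GenFlatStrat.pattern E' (tS.base ζ)) = i := fun ζ => by
    obtain ⟨h1, h2⟩ := stratumι_mem (chain E' (i : ℕ)) (chain E' ((i : ℕ) + 1)) ζ
    rw [mem_support_chain] at h1 h2
    change (i : ℕ) ≤ ord (GenFlatStrat.pattern E' (tS.base ζ)) at h1
    change ¬ (i : ℕ) + 1 ≤ ord (GenFlatStrat.pattern E' (tS.base ζ)) at h2
    omega
  let z := tS.base h.some
  obtain ⟨j, hzW, hzE⟩ := hcov z
  let P := GenFlatStrat.pattern E' z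
  have hjP : Sum.inl j ∈ P := (mem_pattern E').mpr hzE
  have hjD : Sum.inr j ∉ P := fun hh => by
    have h' : z ∈ ((D j).support : Set S) := (mem_pattern E').mp hh
    rw [hDs] at h'
    exact h' hzW
  have hle : E j ≤ tS.ker := le_ker_stratumι E' i P (hord _) hjP
  let r₀ := IsClosedImmersion.lift (E j).subschemeι tS (by rwa [Scheme.IdealSheafData.ker_subschemeι])
  have hr₀ : r₀ ≫ (E j).subschemeι = tS := IsClosedImmersion.lift_fac _ _ _
  have hrange : Set.range r₀ ⊆ Set.range (piece (W j).1 (E j)).ι := by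
    rw [Scheme.Opens.range_ι]
    rintro _ ⟨ζ, rfl⟩
    show (E j).subschemeι.base (r₀.base ζ) ∈ (W j).1
    rw [← Scheme.Hom.comp_apply, hr₀]
    by_contra hne
    have h' : tS.base ζ ∈ ((D j).support : Set S) := by rw [hDs]; exact hne
    have heq : GenFlatStrat.pattern E' (tS.base ζ) = P := ord_injective ((hord ζ).trans (hord _).symm)
    exact hjD (heq ▸ (mem_pattern E' (k := Sum.inr j)).mpr h')
  exact ⟨j, IsOpenImmersion.lift (piece (W j).1 (E j)).ι r₀ hrange,
    by rw [IsOpenImmersion.lift_fac_assoc]; exact hr₀⟩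

end SmoothStrat
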