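import Groth.Agent.SmoothStrat.Point
import Groth.Agent.SmoothStrat.Pieces
import Groth.Agent.GenFlatStrat.Piece
import Groth.Agent.WeightLib.Constr

/-!
# Smooth stratifications
-/

set_option autoImplicit false
set_option linter.style.haveILetI false
universe u
open CategoryTheory CategoryTheory.Limits AlgebraicGeometry TopologicalSpace Topology Opposite

noncomputable section

namespace SmoothStrat

open RichLib.Strata

variable {X S : Scheme.{u}}

theorem exists_factor_stratum {U : S.Opens} (hU : IsAffineOpen U) (q : Ideal Γ(S, U)) [q.IsPrime]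
    (k : Idx Γ(S, U) q) {N : Scheme.{u}} [IsAffine N] (n : N ⟶ S)
    (hle : (⊤ : N.Opens) ≤ n ⁻¹ᵁ S.basicOpen k.elt)
    (hI : ∀ x ∈ k.I, (n.appLE U ⊤ (hle.trans (n.preimage_mono (S.basicOpen_le _)))).hom x = 0) :
    ∃ r, r ≫ (psys q).t (op k) ≫ hU.fromSpec = n := by
  let hleU : (⊤ : N.Opens) ≤ n ⁻¹ᵁ U := hle.trans (n.preimage_mono (S.basicOpen_le _))
  let φ : Γ(S, U) →+* Γ(N, ⊤) := (n.appLE U ⊤ hleU).hom
  have hu : IsUnit (Ideal.Quotient.lift k.I φ hI (Ideal.Quotient.mk k.I k.elt)) := by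
    rw [Ideal.Quotient.lift_mk]
    have h1 := (RingedSpace.isUnit_res_basicOpen _ k.elt).map (n.appLE (S.basicOpen k.elt) ⊤ hle).hom
    have h2 : (S.presheaf.map (homOfLE (S.basicOpen_le k.elt)).op ≫ n.appLE (S.basicOpen k.elt) ⊤ hle).hom k.elt =
        φ k.elt := by rw [Scheme.Hom.map_appLE]
    rw [← h2]
    exact h1
  let ψ : k.B →+* Γ(N, ⊤) := IsLocalization.Away.lift (Ideal.Quotient.mk k.I k.elt) hu
  have hψ : ψ.comp (algebraMap Γ(S, U) k.B) = φ := RingHom.ext fun x => by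
    rw [RingHom.comp_apply, RichLib.Strata.algebraMap_B]
    exact IsLocalization.Away.lift_eq _ hu _
  refine ⟨N.isoSpec.hom ≫ Spec.map (CommRingCat.ofHom ψ), ?_⟩
  rw [psys_t]
  show (N.isoSpec.hom ≫ Spec.map (CommRingCat.ofHom ψ)) ≫ Spec.map (CommRingCat.ofHom (algebraMap Γ(S, U) k.B)) ≫
    hU.fromSpec = n
  rw [Category.assoc, ← Spec.map_comp_assoc, ← CommRingCat.ofHom_comp, hψ]
  have h2 := IsAffineOpen.SpecMap_appLE_fromSpec n hU (isAffineOpen_top N) hleU
  rw [IsAffineOpen.fromSpec_top] at h2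
  exact (congrArg (N.isoSpec.hom ≫ ·) h2).trans (by simp)

theorem exists_data_open (f : X ⟶ S) [LocallyOfFinitePresentation f] [QuasiCompact f] [QuasiSeparated f]
    {U : S.Opens} (hU : IsAffineOpen U) (q : Ideal Γ(S, U)) [q.IsPrime] :
    ∃ k : Idx Γ(S, U) q, Data f ((psys q).t (op k) ≫ hU.fromSpec) := by
  haveI : LocallyOfFinitePresentation (pullback.snd f hU.fromSpec) := MorphismProperty.pullback_snd _ _ ‹_›
  obtain ⟨k, hk⟩ := exists_data_affine q (pullback.snd f hU.fromSpec)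
  exact ⟨k, hk.of_pullback_snd⟩

/-- A piece through a point mapping to a given stratum. -/
theorem exists_piece_stratum [CompactSpace S] [QuasiSeparatedSpace S] {U : S.Opens} (hU : IsAffineOpen U)
    (s₀ : U) (k : Idx Γ(S, U) (hU.primeIdealOf s₀).asIdeal) :
    ∃ (W : S.affineOpens) (E : S.IdealSheafData), (∀ V, (E.ideal V).FG) ∧ s₀.1 ∈ W.1 ∧ s₀.1 ∈ E.support ∧
      IsConstructible ((W.1 : Set S) ∩ E.support) ∧
      ∃ r, r ≫ (psys (hU.primeIdealOf s₀).asIdeal).t (op k) ≫ hU.fromSpec = pieceι W.1 E := by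
  classical
  obtain ⟨s, hsU⟩ := s₀
  let q := hU.primeIdealOf ⟨s, hsU⟩
  let a := k.elt
  let W : S.affineOpens := ⟨S.basicOpen a, hU.basicOpen a⟩
  let res : Γ(S, U) →+* Γ(S, W.1) := (S.presheaf.map (homOfLE (S.basicOpen_le a)).op).hom
  obtain ⟨E, hE, hEW⟩ := GenFlatStrat.exists_fg_extend W (k.I.map res) (Ideal.FG.map k.fg res)
  have hmem : ∀ x : Γ(S, U), x ∈ q.asIdeal ↔ s ∉ S.basicOpen x := fun x => by
    have h1 : q ∈ hU.fromSpec ⁻¹ᵁ S.basicOpen x ↔ s ∈ S.basicOpen x := by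
      show hU.fromSpec.base q ∈ S.basicOpen x ↔ _
      rw [show hU.fromSpec.base q = s from hU.fromSpec_primeIdealOf ⟨s, hsU⟩]
    rw [hU.fromSpec_preimage_basicOpen] at h1
    rw [← h1]
    exact not_not.symm
  have hsW : s ∈ W.1 := by
    by_contra h
    exact k.elt_notMem ((hmem a).mpr h)
  have hsE : s ∈ E.support := by
    rw [Scheme.IdealSheafData.mem_support_iff_of_mem hsW, hEW, Scheme.mem_zeroLocus_iff]
    intro y hy
    have hle : k.I.map res ≤ (IsLocalRing.maximalIdeal (S.presheaf.stalk s)).comap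
        (S.presheaf.germ W.1 s hsW).hom := Ideal.map_le_iff_le_comap.mpr fun x hx => by
      rw [Ideal.mem_comap, Ideal.mem_comap, IsLocalRing.mem_maximalIdeal, mem_nonunits_iff]
      show ¬ IsUnit ((S.presheaf.map (homOfLE (S.basicOpen_le a)).op ≫ S.presheaf.germ W.1 s hsW) x)
      rw [TopCat.Presheaf.germ_res, ← S.mem_basicOpen x s hsU]
      exact (hmem x).mp (k.le hx)
    rw [S.mem_basicOpen y s hsW]
    exact (IsLocalRing.mem_maximalIdeal _).mp (hle hy)
  refine ⟨W, E, hE, hsW, hsE,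
    (GenFlatStrat.isConstructible_of_affine W.2).inter (isConstructible_support E hE), ?_⟩
  haveI : IsAffine (piece W.1 E).toScheme := W.2.preimage E.subschemeι
  have hle : (⊤ : (piece W.1 E).toScheme.Opens) ≤ pieceι W.1 E ⁻¹ᵁ W.1 := fun z _ => by
    show (pieceι W.1 E).base z ∈ W.1
    rw [Scheme.Hom.comp_apply]
    exact z.2
  obtain ⟨r, hr⟩ := exists_factor_stratum hU q.asIdeal k (pieceι W.1 E) hle fun x hx => by
    have h1 : res x ∈ E.ideal W := by rw [hEW]; exact Ideal.mem_map_of_mem res hx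
    rw [← Scheme.IdealSheafData.ker_subschemeι_app, RingHom.mem_ker] at h1
    have h2 : ((S.presheaf.map (homOfLE (S.basicOpen_le a)).op) ≫ (pieceι W.1 E).appLE W.1 ⊤ hle).hom x = 0 := by
      have key : ∀ (n : (piece W.1 E).toScheme ⟶ S), n = (piece W.1 E).ι ≫ E.subschemeι →
          ∀ (e₀ : (⊤ : (piece W.1 E).toScheme.Opens) ≤ n ⁻¹ᵁ W.1), (n.appLE W.1 ⊤ e₀).hom (res x) = 0 := by
        rintro _ rfl e₀
        rw [Scheme.Hom.comp_appLE]
        show ((piece W.1 E).ι.appLE (E.subschemeι ⁻¹ᵁ W.1) ⊤ _).hom ((E.subschemeι.app W.1).hom (res x)) = 0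
        erw [h1]
        exact map_zero _
      exact key _ rfl hle
    rwa [Scheme.Hom.map_appLE] at h2
  exact ⟨r, hr⟩

/-- The smoothness piece through a point. -/
theorem exists_piece (f : X ⟶ S) [LocallyOfFinitePresentation f] [QuasiCompact f] [QuasiSeparated f]
    [CompactSpace S] [QuasiSeparatedSpace S] (s : S) :
    ∃ (W : S.affineOpens) (E : S.IdealSheafData), (∀ V, (E.ideal V).FG) ∧ s ∈ W.1 ∧ s ∈ E.support ∧
      IsConstructible ((W.1 : Set S) ∩ E.support) ∧ Data f (pieceι W.1 E) := by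
  obtain ⟨U, hU, hsU, -⟩ := exists_isAffineOpen_mem_and_subset (X := S) (x := s) (U := ⊤) trivial
  obtain ⟨k, hk⟩ := exists_data_open f hU (hU.primeIdealOf ⟨s, hsU⟩).asIdeal
  obtain ⟨W, E, hE, hsW, hsE, hC, r, hr⟩ := exists_piece_stratum hU ⟨s, hsU⟩ k
  refine ⟨W, E, hE, hsW, hsE, hC, ?_⟩
  rw [← hr]
  exact hk.baseChange r

/-- Smooth stratification of a quasi-compact quasi-separated base. -/
theorem exists_stratification (f : X ⟶ S) [LocallyOfFinitePresentation f] [QuasiCompact f] [QuasiSeparated f]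
    [CompactSpace S] [QuasiSeparatedSpace S] :
    ∃ (t : ℕ) (I : Fin (t + 1) → S.IdealSheafData), Monotone I ∧ I (Fin.last t) = ⊤ ∧
      ((I 0).support : Set S) = Set.univ ∧ (∀ i, ∀ U : S.affineOpens, ((I i).ideal U).FG) ∧
      ∀ i : Fin t, Data f (stratumι (I i.castSucc) (I i.succ)) := by
  classical
  choose W E hE hsW hsE hC hgood using fun s => exists_piece f s
  obtain ⟨G, hG⟩ := WeightLib.exists_finset_cover (fun s => ((W s).1 : Set S) ∩ (E s).support) hC
    fun s => ⟨s, hsW s, hsE s⟩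
  let σ := G.equivFin.symm
  obtain ⟨t, I, hmono, htop, h0, hfg, hpieces⟩ := exists_stratification_of_pieces
    (fun j => W (σ j)) (fun j => E (σ j)) (fun j => hE _) fun z => by
      obtain ⟨s, hs, h1, h2⟩ := hG z
      exact ⟨G.equivFin ⟨s, hs⟩, by simpa [σ] using h1, by simpa [σ] using h2⟩
  refine ⟨t, I, hmono, htop, h0, hfg, fun i => ?_⟩
  rcases hpieces i with h | ⟨j, r, hr⟩
  · exact Data.of_isEmpty f _
  · rw [← hr]
    exact (hgood (σ j)).baseChange r

theorem exists_notMem_mul_eq_zero {A : Type u} [CommRing A] [_root_.IsReduced A] {q : Ideal A}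
    (hq : q ∈ minimalPrimes A) {x : A} (hx : x ∈ q) : ∃ c ∉ q, c * x = 0 := by
  haveI : q.IsPrime := hq.1.1
  by_cases h0 : (0 : A) ∈ q.primeCompl ⊔ Submonoid.powers x
  · obtain ⟨c, hc, _, ⟨n, rfl⟩, hcn⟩ := Submonoid.mem_sup.mp h0
    refine ⟨c, hc, IsNilpotent.eq_zero ⟨n + 1, ?_⟩⟩
    rw [mul_pow, pow_succ c, pow_succ x]
    calc c ^ n * c * (x ^ n * x) = c ^ n * x * (c * x ^ n) := by ring
      _ = 0 := by rw [hcn, mul_zero]
  · obtain ⟨P, hP, -, hdisj⟩ := Ideal.exists_le_prime_disjoint (⊥ : Ideal A) (q.primeCompl ⊔ Submonoid.powers x)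
      (Set.disjoint_left.mpr fun y hy hy' => h0 (by rw [Ideal.mem_bot.mp hy] at hy'; exact hy'))
    have hle : P ≤ q := fun y hy => by
      by_contra hyq
      exact Set.disjoint_left.mp hdisj hy (Submonoid.mem_sup_left hyq)
    exact absurd (hq.2 ⟨hP, bot_le⟩ hle hx)
      fun hxP => Set.disjoint_left.mp hdisj hxP (Submonoid.mem_sup_right (Submonoid.mem_powers x))

/-- Smooth stratification near the generic point of a component of a reduced base. -/
theorem exists_data_generic (f : X ⟶ S) [LocallyOfFinitePresentation f] [QuasiCompact f] [QuasiSeparated f]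
    [AlgebraicGeometry.IsReduced S] (η : S) (W : Set S) (hW : W ∈ irreducibleComponents S)
    (hη : IsGenericPoint η W) : ∃ V : S.Opens, η ∈ V ∧ Data f V.ι := by
  classical
  obtain ⟨U, hU, hηU, -⟩ := exists_isAffineOpen_mem_and_subset (X := S) (x := η) (U := ⊤) trivial
  let q := hU.primeIdealOf ⟨η, hηU⟩
  have hqη : hU.fromSpec.base q = η := hU.fromSpec_primeIdealOf ⟨η, hηU⟩
  have hmin : q.asIdeal ∈ minimalPrimes Γ(S, U) := by
    refine ⟨⟨q.isPrime, bot_le⟩, fun P hP hPq => ?_⟩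
    let p : PrimeSpectrum Γ(S, U) := ⟨P, hP.1⟩
    have hsp : hU.fromSpec.base p ⤳ η := hqη ▸
      ((PrimeSpectrum.le_iff_specializes p q).mp hPq).map hU.fromSpec.continuous
    have hsub : W ⊆ closure {hU.fromSpec.base p} :=
      hη.def.symm ▸ closure_minimal (Set.singleton_subset_iff.mpr hsp.mem_closure) isClosed_closure
    have heq : closure {hU.fromSpec.base p} = W :=
      (hsub.antisymm (hW.2 isIrreducible_singleton.closure hsub)).symm
    have : hU.fromSpec.base p = η := (show IsGenericPoint (hU.fromSpec.base p) W from heq).eq hη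
    have hpq : p = q := hU.fromSpec.isOpenEmbedding.injective (this.trans hqη.symm)
    rw [← hpq]
  haveI : _root_.IsReduced Γ(S, U) := inferInstance
  obtain ⟨k, hk⟩ := exists_data_open f hU q.asIdeal
  obtain ⟨G, hG⟩ := k.fg
  choose! c hc hcz using fun x (hx : x ∈ G) =>
    exists_notMem_mul_eq_zero hmin (k.le (hG.le (Submodule.subset_span hx)))
  let e := k.elt * ∏ x ∈ G, c x
  have he : e ∉ q.asIdeal := fun h => (q.isPrime.mem_or_mem h).elim k.elt_notMem fun h' => by
    obtain ⟨x, hx, hx'⟩ := (Ideal.IsPrime.prod_mem_iff (p := q.asIdeal)).mp h'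
    exact hc x hx hx'
  let V := S.basicOpen e
  haveI : IsAffine V.toScheme := hU.basicOpen e
  have hηV : η ∈ V := by
    rw [← hqη]
    show q ∈ hU.fromSpec ⁻¹ᵁ V
    rw [hU.fromSpec_preimage_basicOpen]
    exact he
  refine ⟨V, hηV, ?_⟩
  have hVe : V ≤ S.basicOpen k.elt := by
    show S.basicOpen e ≤ _
    rw [Scheme.basicOpen_mul]
    exact inf_le_left
  have hle : (⊤ : V.toScheme.Opens) ≤ V.ι ⁻¹ᵁ S.basicOpen k.elt := fun z _ => hVe z.2
  obtain ⟨r, hr⟩ := exists_factor_stratum hU q.asIdeal k V.ι hle fun x hx => by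
    let φ : Γ(S, U) →+* Γ(V.toScheme, ⊤) := (V.ι.appLE U ⊤ (hle.trans (V.ι.preimage_mono (S.basicOpen_le _)))).hom
    show φ x = 0
    have hleV : (⊤ : V.toScheme.Opens) ≤ V.ι ⁻¹ᵁ V := fun z _ => z.2
    have hue : IsUnit (φ e) := by
      have h1 := (RingedSpace.isUnit_res_basicOpen _ e).map (V.ι.appLE V ⊤ hleV).hom
      have h2 : (S.presheaf.map (homOfLE (S.basicOpen_le e)).op ≫ V.ι.appLE V ⊤ hleV).hom e = φ e := by
        rw [Scheme.Hom.map_appLE]
      rw [← h2]
      exact h1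
    suffices h : k.I ≤ RingHom.ker φ from h hx
    rw [← hG, Submodule.span_le]
    intro y hy
    rw [SetLike.mem_coe, RingHom.mem_ker]
    have h2 : IsUnit (φ (c y)) := isUnit_of_dvd_unit
      (map_dvd φ ((Finset.dvd_prod_of_mem c hy).mul_left _)) hue
    refine h2.mul_right_eq_zero.mp ?_
    rw [← map_mul, hcz y hy, map_zero]
  rw [← hr]
  exact hk.baseChange r

end SmoothStrat
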