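import Groth.Agent.GenFlatStrat.FGExtend
import Groth.Agent.GenFlatStrat.Chain
import Mathlib.AlgebraicGeometry.Morphisms.ClosedImmersion

/-!
# Stratifications by the atoms of finitely many finite type ideal sheaves
-/

set_option autoImplicit false
set_option linter.style.haveILetI false
universe u
open CategoryTheory CategoryTheory.Limits AlgebraicGeometry TopologicalSpace Topology

noncomputable section

namespace SmoothStrat

open GenFlatStrat (sigma idealHom pattern mem_support_sup mem_support_prod ideal_eq_top_of_disjoint)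

variable {S : Scheme.{u}} {κ : Type} [Fintype κ] (E : κ → S.IdealSheafData)

/-- A numbering of the subfamilies refining inclusion. -/
def ord (A : Finset κ) : ℕ := ∑ k ∈ A, 2 ^ ((Fintype.equivFin κ k : ℕ))

theorem ord_mono {A B : Finset κ} (h : A ⊆ B) : ord A ≤ ord B :=
  Finset.sum_le_sum_of_subset h

theorem ord_injective : Function.Injective (ord : Finset κ → ℕ) := by
  intro A B h
  let e : κ ↪ ℕ := (Fintype.equivFin κ).toEmbedding.trans Fin.valEmbedding
  have h' : ∑ i ∈ A.map e, 2 ^ i = ∑ i ∈ B.map e, 2 ^ i := by simpa [ord, Finset.sum_map, e] using h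
  exact Finset.map_injective e (Finset.geomSum_injective (n := 2) le_rfl h')

/-- One more than every value of the numbering. -/
def len : ℕ := (Finset.univ : Finset (Finset κ)).sup (fun A => ord A) + 1

/-- The ideal of the atoms numbered at least `i`. -/
def level (i : ℕ) : S.IdealSheafData := ∏ A ∈ Finset.univ.filter (fun A => i ≤ ord A), sigma E A

/-- The increasing chain. -/
def chain (i : ℕ) : S.IdealSheafData := (Finset.range (i + 1)).sup (level E)

theorem chain_mono : Monotone (chain E) := fun _ _ h =>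
  Finset.sup_mono (Finset.range_mono (Nat.add_le_add_right h 1))

theorem chain_fg (hE : ∀ k V, ((E k).ideal V).FG) (i : ℕ) (V : S.affineOpens) : ((chain E i).ideal V).FG := by
  refine GenFlatStrat.fg_finset_sup _ _ V fun l _ => ?_
  show (idealHom V (level E l)).FG
  rw [level, map_prod]
  refine Finset.prod_induction _ (fun J : Ideal Γ(S, V.1) => J.FG) (fun _ _ h h' => Submodule.FG.mul h h') ?_
    fun A _ => GenFlatStrat.fg_finset_sup A E V fun k _ => hE k V
  show (1 : Ideal Γ(S, V.1)).FG
  rw [Ideal.one_eq_top]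
  exact ⟨{1}, by rw [Finset.coe_singleton, Ideal.span_singleton_one]⟩

theorem mem_pattern {k : κ} {z : S} : k ∈ pattern E z ↔ z ∈ (E k).support := by
  simp [pattern]

theorem mem_support_chain (i : ℕ) (z : S) : z ∈ (chain E i).support ↔ i ≤ ord (pattern E z) := by
  classical
  have key : ∀ l, z ∈ (level E l).support ↔ l ≤ ord (pattern E z) := fun l => by
    rw [level, mem_support_prod]
    constructor
    · rintro ⟨A, hA, hz⟩
      exact (Finset.mem_filter.mp hA).2.trans
        (ord_mono fun k hk => (mem_pattern E).mpr ((mem_support_sup A E z).mp hz k hk))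
    · intro h
      exact ⟨pattern E z, Finset.mem_filter.mpr ⟨Finset.mem_univ _, h⟩,
        (mem_support_sup _ E z).mpr fun k hk => (mem_pattern E).mp hk⟩
  rw [chain, mem_support_sup]
  simp only [key, Finset.mem_range]
  exact ⟨fun h => h i (Nat.lt_succ_self i), fun h l hl => (Nat.le_of_lt_succ hl).trans h⟩

theorem support_chain_zero : ((chain E 0).support : Set S) = Set.univ :=
  Set.eq_univ_of_forall fun z => (mem_support_chain E 0 z).mpr (Nat.zero_le _)

theorem chain_len : chain E (len (κ := κ)) = ⊤ := by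
  refine top_le_iff.mp (le_trans ?_ (Finset.le_sup (f := level E) (Finset.mem_range.mpr (Nat.lt_succ_self _))))
  rw [level, Finset.filter_false_of_mem, Finset.prod_empty]
  · exact le_refl _
  · intro A _ h
    exact absurd (Finset.le_sup (f := fun A : Finset κ => ord A) (Finset.mem_univ A)) (by simp only [len] at h; omega)

theorem ideal_le_chain (N : S.affineOpens) (P : Finset κ) (hN : ∀ z ∈ N.1, ∀ k, k ∉ P → z ∉ (E k).support)
    {j : κ} (hj : j ∈ P) : (E j).ideal N ≤ (chain E (ord P)).ideal N := by
  classical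
  refine le_trans ?_ ((Finset.le_sup (f := level E) (Finset.mem_range.mpr (Nat.lt_succ_self _))) N)
  show _ ≤ idealHom N (level E (ord P))
  rw [level, map_prod, Finset.prod_eq_single P]
  · exact (Finset.le_sup (f := E) hj) N
  · intro B hB hne
    obtain ⟨k, hkB, hkP⟩ : ∃ k ∈ B, k ∉ P := by
      by_contra hcon
      push Not at hcon
      exact hne (ord_injective (le_antisymm (ord_mono hcon) (Finset.mem_filter.mp hB).2))
    rw [Ideal.one_eq_top]
    refine top_le_iff.mp ((ideal_eq_top_of_disjoint (E k) N fun z hz => hN z hz k hkP).ge.trans ?_)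
    exact (Finset.le_sup (f := E) hkB) N
  · exact fun h => absurd (by simp) h

/-- The open complement of the next member of a chain inside a closed subscheme. -/
abbrev stratum (I J : S.IdealSheafData) : I.subscheme.Opens := I.subschemeι ⁻¹ᵁ J.support.compl

/-- The inclusion of a stratum. -/
abbrev stratumι (I J : S.IdealSheafData) : (stratum I J).toScheme ⟶ S := (stratum I J).ι ≫ I.subschemeι

theorem stratumι_mem (I J : S.IdealSheafData) (ζ : (stratum I J).toScheme) :
    (stratumι I J).base ζ ∈ I.support ∧ (stratumι I J).base ζ ∉ J.support := by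
  rw [Scheme.Hom.comp_apply]
  refine ⟨?_, fun h => ζ.2 h⟩
  show I.subschemeι.base _ ∈ (I.support : Set S)
  rw [← I.range_subschemeι]
  exact ⟨_, rfl⟩

/-- The points of a stratum have constant pattern and the stratum is killed by its members. -/
theorem le_ker_stratumι (i : ℕ) (P : Finset κ) (hP : ord P = i) {j : κ} (hj : j ∈ P) :
    E j ≤ (stratumι (chain E i) (chain E (i + 1))).ker := by
  classical
  set I := chain E i
  set J := chain E (i + 1)
  refine Scheme.IdealSheafData.le_ofIdeals_iff.mpr fun V => ?_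
  intro y hy
  rw [RingHom.mem_ker]
  let tS := stratumι I J
  let G : S.Opens := ⟨⋂ k ∈ Finset.univ \ P, ((E k).support : Set S)ᶜ,
    isOpen_biInter_finset fun k _ => (E k).support.isClosed.isOpen_compl⟩
  have hG : ∀ ζ : {ζ // ζ ∈ tS ⁻¹ᵁ V.1}, tS.base ζ.1 ∈ V.1 ⊓ G := fun ζ => by
    obtain ⟨h1, h2⟩ := stratumι_mem I J ζ.1
    rw [mem_support_chain] at h1 h2
    refine ⟨ζ.2, Set.mem_iInter₂.mpr fun k hk hkz => (Finset.mem_sdiff.mp hk).2 ?_⟩
    have : pattern E (tS.base ζ.1) = P := ord_injective (by rw [hP]; simp only [tS] at *; omega)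
    exact this ▸ (mem_pattern E).mpr hkz
  choose N hN hmemN hNle using fun ζ => exists_isAffineOpen_mem_and_subset (hG ζ)
  refine TopCat.Sheaf.eq_of_locally_eq' (stratum I J).toScheme.sheaf (fun ζ => tS ⁻¹ᵁ (N ζ))
    (tS ⁻¹ᵁ V.1) (fun ζ => homOfLE (tS.preimage_mono (fun _ h => (hNle ζ h).1))) ?_ _ _ (fun ζ => ?_)
  · intro ζ hζ
    exact Opens.mem_iSup.mpr ⟨⟨ζ, hζ⟩, hmemN _⟩
  · let N₀ := N ζ
    have hN₀ : IsAffineOpen N₀ := hN ζ
    have hle : (N₀ : Set S) ⊆ (V.1 ⊓ G : S.Opens) := hNle ζ
    have hNV : N₀ ≤ V.1 := fun _ h => (hle h).1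
    let res := S.presheaf.map (homOfLE hNV).op
    have h1 : res y ∈ (E j).ideal ⟨N₀, hN₀⟩ := by
      rw [← (E j).map_ideal (U := ⟨N₀, hN₀⟩) (V := V) hNV]
      exact Ideal.mem_map_of_mem _ hy
    have h2 : res y ∈ I.ideal ⟨N₀, hN₀⟩ := by
      have := ideal_le_chain E ⟨N₀, hN₀⟩ P (fun w hw k hk hwk =>
        Set.mem_iInter₂.mp (hle hw).2 k (Finset.mem_sdiff.mpr ⟨Finset.mem_univ _, hk⟩) hwk) hj h1
      rwa [hP] at this
    rw [← Scheme.IdealSheafData.ker_subschemeι_app, RingHom.mem_ker] at h2
    refine Eq.trans ?_ (map_zero _).symm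
    show (tS.app V.1 ≫ (stratum I J).toScheme.presheaf.map _).hom y = 0
    refine Eq.trans (congrArg (fun φ => (CommRingCat.Hom.hom φ) y) (tS.naturality (homOfLE hNV).op).symm) ?_
    show (tS.app N₀).hom (res y) = 0
    rw [Scheme.Hom.comp_app]
    show ((stratum I J).ι.app _).hom ((I.subschemeι.app N₀).hom (res y)) = 0
    erw [h2]
    exact map_zero _

/-- A locally closed affine-based piece. -/
abbrev piece (W : S.Opens) (J : S.IdealSheafData) : J.subscheme.Opens := J.subschemeι ⁻¹ᵁ W

/-- Its inclusion. -/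
abbrev pieceι (W : S.Opens) (J : S.IdealSheafData) : (piece W J).toScheme ⟶ S := (piece W J).ι ≫ J.subschemeι

theorem fg_sup {α : Type*} (A : Finset α) (D : α → S.IdealSheafData) (V : S.affineOpens)
    (h : ∀ a ∈ A, ((D a).ideal V).FG) : ((A.sup D).ideal V).FG := by
  classical
  induction A using Finset.induction_on with
  | empty => exact Submodule.fg_bot
  | insert a A _ ih =>
    rw [Finset.sup_insert]
    exact Submodule.FG.sup (h a (Finset.mem_insert_self a A)) (ih fun b hb => h b (Finset.mem_insert_of_mem hb))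

theorem mem_support_finsetSup {α : Type*} (A : Finset α) (D : α → S.IdealSheafData) (z : S) :
    z ∈ (A.sup D).support ↔ ∀ a ∈ A, z ∈ (D a).support := by
  classical
  induction A using Finset.induction_on with
  | empty =>
    refine ⟨fun _ a ha => absurd ha (Finset.notMem_empty a), fun _ => ?_⟩
    simp only [Finset.sup_empty, Scheme.IdealSheafData.support_bot]
    exact trivial
  | insert a A _ ih =>
    rw [Finset.sup_insert, Scheme.IdealSheafData.support_sup, Finset.forall_mem_insert, ← ih]
    rfl

/-- An ideal sheaf of finite type cutting out the complement of a quasi-compact open. -/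
theorem exists_fg_compl [CompactSpace S] [QuasiSeparatedSpace S] (W : S.Opens) (hW : IsCompact (W : Set S)) :
    ∃ D : S.IdealSheafData, (∀ V, (D.ideal V).FG) ∧ (D.support : Set S) = (W : Set S)ᶜ := by
  classical
  let C : Closeds S := ⟨(W : Set S)ᶜ, W.isOpen.isClosed_compl⟩
  let Z := Scheme.IdealSheafData.vanishingIdeal C
  have hpt : ∀ z : W, ∃ (V : S.affineOpens) (a : Γ(S, V.1)), z.1 ∈ S.basicOpen a ∧ a ∈ Z.ideal V := by
    rintro ⟨z, hz⟩
    obtain ⟨V, hV, hzV, -⟩ := exists_isAffineOpen_mem_and_subset (X := S) (x := z) (U := ⊤) trivial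
    have hns : z ∉ Z.support := by
      intro h
      have h' : z ∈ (Z.support : Set S) := h
      rw [Scheme.IdealSheafData.coe_support_vanishingIdeal] at h'
      exact h' hz
    rw [Scheme.IdealSheafData.mem_support_iff_of_mem (U := ⟨V, hV⟩) hzV, Scheme.mem_zeroLocus_iff] at hns
    push Not at hns
    obtain ⟨a, ha, hza⟩ := hns
    exact ⟨⟨V, hV⟩, a, hza, ha⟩
  choose V a hza ha using hpt
  obtain ⟨t, ht⟩ := hW.elim_finite_subcover (fun z : W => (S.basicOpen (a z) : Set S))
    (fun z => (S.basicOpen (a z)).isOpen) fun z hz => Set.mem_iUnion.mpr ⟨⟨z, hz⟩, hza _⟩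
  choose D hD hle hmem using fun z => GenFlatStrat.exists_fg_le Z (V z) {a z} fun y hy => by
    rw [Finset.mem_singleton] at hy
    exact hy ▸ ha z
  refine ⟨t.sup D, fun U => fg_sup t D U fun z _ => hD z U, Set.ext fun x => ?_⟩
  rw [SetLike.mem_coe, mem_support_finsetSup, Set.mem_compl_iff]
  constructor
  · intro h hxW
    obtain ⟨z, hz, hxz⟩ := Set.mem_iUnion₂.mp (ht hxW)
    have := h z hz
    rw [Scheme.IdealSheafData.mem_support_iff_of_mem (U := V z) (S.basicOpen_le _ hxz),
      Scheme.mem_zeroLocus_iff] at this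
    exact this (a z) (hmem z _ (Finset.mem_singleton_self _)) hxz
  · intro hxW z _
    refine Scheme.IdealSheafData.support_antitone (hle z) ?_
    show x ∈ (Z.support : Set S)
    rw [Scheme.IdealSheafData.coe_support_vanishingIdeal]
    exact hxW

end SmoothStrat
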