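import Groth.Agent.RichLib.PointStrata
import Mathlib.RingTheory.Spectrum.Prime.ConstructibleSet
import Mathlib.AlgebraicGeometry.Morphisms.FinitePresentation

/-!
# Strata through a point avoiding constructible sets
-/

set_option autoImplicit false
set_option linter.style.haveILetI false
universe u
open CategoryTheory CategoryTheory.Limits AlgebraicGeometry TopologicalSpace Topology

noncomputable section

namespace SmoothStrat

open RichLib.Strata

variable {A : Type u} [CommRing A] (q : Ideal A) [q.IsPrime]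

theorem exists_idx_avoid (k₀ : Idx A q) {C : Set (PrimeSpectrum A)} (hC : IsConstructible C)
    (hq : (⟨q, inferInstance⟩ : PrimeSpectrum A) ∉ C) :
    ∃ k : Idx A q, k₀ ≤ k ∧ Disjoint (Set.range (PrimeSpectrum.comap (algebraMap A k.B))) C := by
  classical
  obtain ⟨d, hd⟩ := PrimeSpectrum.exists_constructibleSetData_iff.mpr hC.compl
  have hq' : (⟨q, inferInstance⟩ : PrimeSpectrum A) ∈ d.toSet := hd ▸ hq
  obtain ⟨D, hD, hqD⟩ := Set.mem_iUnion₂.mp hq'
  have hg : Ideal.span (Set.range D.g) ≤ q := Ideal.span_le.mpr hqD.1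
  have hf : D.f ∉ q := fun h => hqD.2 (by
    rw [PrimeSpectrum.mem_zeroLocus, Set.singleton_subset_iff]; exact h)
  let k : Idx A q :=
    { I := k₀.I ⊔ Ideal.span (Set.range D.g)
      fg := Submodule.FG.sup k₀.fg (Submodule.fg_span (Set.finite_range _))
      le := sup_le k₀.le hg
      els := insert ⟨D.f, hf⟩ k₀.els }
  refine ⟨k, ⟨le_sup_left, Finset.subset_insert _ _⟩, Set.disjoint_left.mpr fun x hx hxC => ?_⟩
  rw [range_comap_B] at hx
  have : x ∈ Cᶜ := by
    rw [← hd]
    refine Set.mem_iUnion₂.mpr ⟨D, hD, ?_, fun h => hx.2 ?_⟩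
    · exact fun y hy => hx.1 (Submodule.mem_sup_right (Ideal.subset_span hy))
    · rw [PrimeSpectrum.mem_zeroLocus, Set.singleton_subset_iff] at h
      exact Ideal.IsPrime.prod_mem_iff.mpr ⟨⟨D.f, hf⟩, Finset.mem_insert_self _ _, h⟩
  exact this hxC

/-- A constructible set with no point over `q` is avoided by a stratum. -/
theorem exists_idx_avoid_image (k₀ : Idx A q) {Z : Scheme.{u}} (h : Z ⟶ Spec (CommRingCat.of A))
    [LocallyOfFinitePresentation h] [QuasiCompact h] {C : Set Z} (hC : IsConstructible C)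
    (hq : ∀ z ∈ C, h.base z ≠ (⟨q, inferInstance⟩ : PrimeSpectrum A)) :
    ∃ k : Idx A q, k₀ ≤ k ∧
      ∀ z ∈ C, h.base z ∉ Set.range (Spec.map (CommRingCat.ofHom (algebraMap A k.B))).base := by
  obtain ⟨k, hk, hd⟩ := exists_idx_avoid q k₀ (C := h.base '' C) (Scheme.Hom.isConstructible_image h hC)
    (by rintro ⟨z, hz, e⟩; exact hq z hz e)
  exact ⟨k, hk, fun z hz hz' => Set.disjoint_left.mp hd hz' ⟨z, hz, rfl⟩⟩

end SmoothStrat
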