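import Groth.Agent.GenFlatStrat.FGExtend
import Groth.Agent.SmoothStrat.Atoms
import Groth.Agent.RichLib.LimitDescent
import Mathlib.AlgebraicGeometry.Noetherian

/-!
# Ideals of finite type inducing given ideals over a residue field
-/

set_option autoImplicit false
set_option linter.style.haveILetI false
universe u
open CategoryTheory CategoryTheory.Limits AlgebraicGeometry TopologicalSpace

noncomputable section

namespace SmoothStrat

variable {A : Type u} [CommRing A] (q : Ideal A) [q.IsPrime]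

/-- The inclusion of the point `q`. -/
abbrev pointι : Spec (CommRingCat.of q.ResidueField) ⟶ Spec (CommRingCat.of A) :=
  Spec.map (CommRingCat.ofHom (algebraMap A q.ResidueField))

theorem exists_mul_mem_range_appTop {P Z : Scheme.{u}} [IsAffine Z] {π : P ⟶ Z}
    {π' : P ⟶ Spec (CommRingCat.of q.ResidueField)} {hZ : Z ⟶ Spec (CommRingCat.of A)}
    (sq : IsPullback π π' hZ (pointι q)) (x : Γ(P, ⊤)) :
    ∃ e y : Γ(Z, ⊤), IsUnit (π.appTop.hom e) ∧ π.appTop.hom y = π.appTop.hom e * x := by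
  let φ := π.appTop.hom
  let M : Subring Γ(P, ⊤) :=
  { carrier := {x | ∃ e y : Γ(Z, ⊤), IsUnit (φ e) ∧ φ y = φ e * x}
    mul_mem' := by
      rintro x x' ⟨e, y, he, hy⟩ ⟨e', y', he', hy'⟩
      exact ⟨e * e', y * y', by rw [map_mul]; exact he.mul he', by rw [map_mul, map_mul, hy, hy']; ring⟩
    one_mem' := ⟨1, 1, by simp, by simp⟩
    add_mem' := by
      rintro x x' ⟨e, y, he, hy⟩ ⟨e', y', he', hy'⟩
      exact ⟨e * e', e' * y + e * y', by rw [map_mul]; exact he.mul he',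
        by rw [map_add, map_mul, map_mul, map_mul, hy, hy']; ring⟩
    zero_mem' := ⟨1, 0, by simp, by simp⟩
    neg_mem' := by
      rintro x ⟨e, y, he, hy⟩
      exact ⟨e, -y, he, by rw [map_neg, hy, mul_neg]⟩ }
  suffices h : M = ⊤ from h.ge (Subring.mem_top x)
  rw [eq_top_iff, ← RichLib.LimBC.closure_range_union_range_of_isPushout (isPushout_appTop_of_isPullback sq),
    Subring.closure_le]
  rintro _ (⟨y, rfl⟩ | ⟨z, rfl⟩)
  · exact ⟨1, y, by simp, by simp [φ]⟩
  · let c := (Scheme.ΓSpecIso (CommRingCat.of q.ResidueField)).hom.hom z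
    obtain ⟨⟨a, s⟩, hc⟩ := IsLocalization.surj (nonZeroDivisors (A ⧸ q)) c
    obtain ⟨a, rfl⟩ := Ideal.Quotient.mk_surjective a
    obtain ⟨s', hs'⟩ := Ideal.Quotient.mk_surjective (s : A ⧸ q)
    let g : A → Γ(Z, ⊤) := fun b => hZ.appTop.hom ((Scheme.ΓSpecIso (CommRingCat.of A)).inv.hom b)
    have hg : ∀ b, φ (g b) = π'.appTop.hom
        ((Scheme.ΓSpecIso (CommRingCat.of q.ResidueField)).inv.hom (algebraMap A q.ResidueField b)) := fun b => by
      have h1 := Scheme.ΓSpecIso_inv_naturality (CommRingCat.ofHom (algebraMap A q.ResidueField))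
      rw [show (Scheme.ΓSpecIso (CommRingCat.of q.ResidueField)).inv.hom (algebraMap A q.ResidueField b) =
        (pointι q).appTop.hom ((Scheme.ΓSpecIso (CommRingCat.of A)).inv.hom b) from congr($(h1).hom b),
        ← RichLib.LimBC.appTop_comp, sq.w, RichLib.LimBC.appTop_comp]
    have hz : z = (Scheme.ΓSpecIso (CommRingCat.of q.ResidueField)).inv.hom c :=
      ((Scheme.ΓSpecIso (CommRingCat.of q.ResidueField)).hom_inv_id_apply z).symm
    have hc' : algebraMap A q.ResidueField a = algebraMap A q.ResidueField s' * c := by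
      rw [mul_comm, IsScalarTower.algebraMap_apply A (A ⧸ q) q.ResidueField a,
        IsScalarTower.algebraMap_apply A (A ⧸ q) q.ResidueField s', Ideal.Quotient.algebraMap_eq, hs']
      exact hc.symm
    refine ⟨g s', g a, ?_, ?_⟩
    · rw [hg]
      refine ((IsUnit.map _ ?_).map _)
      exact isUnit_iff_ne_zero.mpr fun h0 => nonZeroDivisors.coe_ne_zero s
        (hs' ▸ Ideal.Quotient.eq_zero_iff_mem.mpr (Ideal.algebraMap_residueField_eq_zero.mp h0))
    · rw [hg, hg, hc', map_mul, map_mul, ← hz]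

variable {Y Y' : Scheme.{u}} {ρ : Y' ⟶ Y} {h' : Y' ⟶ Spec (CommRingCat.of q.ResidueField)}
  {h : Y ⟶ Spec (CommRingCat.of A)}

theorem exists_mul_mem_range_app (sq : IsPullback ρ h' h (pointι q)) (W : Y.affineOpens)
    (x : Γ(Y', ρ ⁻¹ᵁ W.1)) :
    ∃ e y : Γ(Y, W.1), IsUnit ((ρ.app W.1).hom e) ∧ (ρ.app W.1).hom y = (ρ.app W.1).hom e * x := by
  haveI : IsAffine W.1.toScheme := W.2
  have sq' : IsPullback (ρ ∣_ W.1) ((ρ ⁻¹ᵁ W.1).ι ≫ h') (W.1.ι ≫ h) (pointι q) :=
    ((isPullback_morphismRestrict ρ W.1).flip.paste_horiz sq.flip).flip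
  obtain ⟨e, y, he, hy⟩ := exists_mul_mem_range_appTop q sq' ((ρ ⁻¹ᵁ W.1).topIso.inv.hom x)
  have hnat : ∀ w, (ρ.app W.1).hom (W.1.topIso.hom.hom w) =
      (ρ ⁻¹ᵁ W.1).topIso.hom.hom ((ρ ∣_ W.1).appTop.hom w) := by
    have h1 : W.1.topIso.hom ≫ ρ.app W.1 = (ρ ∣_ W.1).appTop ≫ (ρ ⁻¹ᵁ W.1).topIso.hom := by
      rw [morphismRestrict_appTop]
      show Y.presheaf.map _ ≫ ρ.app W.1 = (ρ.app (W.1.ι ''ᵁ ⊤) ≫ Y'.presheaf.map _) ≫ Y'.presheaf.map _
      erw [Category.assoc, ← Functor.map_comp, ρ.naturality]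
      rfl
    exact fun w => congr($(h1).hom w)
  refine ⟨W.1.topIso.hom.hom e, W.1.topIso.hom.hom y, ?_, ?_⟩
  · rw [hnat]
    exact he.map _
  · rw [hnat, hnat, hy, map_mul, (ρ ⁻¹ᵁ W.1).topIso.inv_hom_id_apply]

/-- An ideal on the fibre over `q` is induced by an ideal of finite type. -/
theorem exists_fg_comap_eq [CompactSpace Y] [QuasiSeparatedSpace Y] [IsLocallyNoetherian Y']
    (sq : IsPullback ρ h' h (pointι q)) (I : Y'.IdealSheafData) :
    ∃ E : Y.IdealSheafData, (∀ V, (E.ideal V).FG) ∧ E ≤ I.map ρ ∧ E.comap ρ = I := by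
  classical
  haveI : IsAffineHom (pointι q) := isAffineHom_of_isAffine _
  haveI : IsAffineHom ρ := MorphismProperty.of_isPullback sq.flip ‹_›
  let 𝒰 := Y.affineCover.finiteSubcover
  let W : 𝒰.I₀ → Y.affineOpens := fun j =>
    ⟨(𝒰.f j).opensRange, haveI : IsAffine (𝒰.X j) := inferInstanceAs (IsAffine (Spec _)); isAffineOpen_opensRange (𝒰.f j)⟩
  let W' : 𝒰.I₀ → Y'.affineOpens := fun j => ⟨ρ ⁻¹ᵁ (W j).1, (W j).2.preimage ρ⟩
  have hgen : ∀ j, ∃ E : Y.IdealSheafData, (∀ V, (E.ideal V).FG) ∧ E ≤ I.map ρ ∧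
      I.ideal (W' j) ≤ (E.comap ρ).ideal (W' j) := fun j => by
    haveI : IsNoetherianRing Γ(Y', (W' j).1) := IsLocallyNoetherian.component_noetherian (W' j)
    obtain ⟨G, hG⟩ := IsNoetherian.noetherian (I.ideal (W' j))
    choose e y he hy using exists_mul_mem_range_app q sq (W j)
    obtain ⟨E, hE, hle, hmem⟩ := GenFlatStrat.exists_fg_le (I.map ρ) (W j) (G.image y) fun w hw => by
      obtain ⟨x, hx, rfl⟩ := Finset.mem_image.mp hw
      rw [Scheme.IdealSheafData.ideal_map_of_isAffineHom, Ideal.mem_comap, hy]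
      exact Ideal.mul_mem_left _ _ (hG.le (Submodule.subset_span hx))
    refine ⟨E, hE, hle, ?_⟩
    rw [← hG, Submodule.span_le]
    intro x hx
    have h1 : y x ∈ ((E.comap ρ).map ρ).ideal (W j) :=
      Scheme.IdealSheafData.le_map_comap E ρ (W j) (hmem _ (Finset.mem_image_of_mem y hx))
    rw [Scheme.IdealSheafData.ideal_map_of_isAffineHom, Ideal.mem_comap, hy] at h1
    exact ((Ideal.unit_mul_mem_iff_mem _ (he x)).mp h1 :)
  choose E hE hle hgenI using hgen
  refine ⟨Finset.univ.sup E, fun V => fg_sup _ _ V fun j _ => hE j V, Finset.sup_le fun j _ => hle j, ?_⟩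
  refine le_antisymm (Scheme.IdealSheafData.le_map_iff_comap_le.mp (Finset.sup_le fun j _ => hle j))
    (Scheme.IdealSheafData.le_of_iSup_eq_top W' ?_ fun j => (hgenI j).trans
      (Scheme.IdealSheafData.comap_mono ρ (Finset.le_sup (f := E) (Finset.mem_univ j)) (W' j)))
  rw [eq_top_iff]
  intro z _
  obtain ⟨w, hw⟩ := 𝒰.covers (ρ.base z)
  exact Opens.mem_iSup.mpr ⟨𝒰.idx (ρ.base z), ⟨w, hw⟩⟩

/-- Chains on the fibre over `q` are induced by chains of finite type. -/
theorem exists_fg_chain [CompactSpace Y] [QuasiSeparatedSpace Y] [IsLocallyNoetherian Y']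
    (sq : IsPullback ρ h' h (pointι q)) (I : ℕ → Y'.IdealSheafData) (hI : Monotone I) :
    ∃ E : ℕ → Y.IdealSheafData, (∀ n V, ((E n).ideal V).FG) ∧ Monotone E ∧ ∀ n, (E n).comap ρ = I n := by
  classical
  choose E hE hle heq using fun n => exists_fg_comap_eq q sq (I n)
  refine ⟨fun n => (Finset.range (n + 1)).sup E, fun n V => fg_sup _ _ V fun l _ => hE l V,
    fun a b hab => Finset.sup_mono (Finset.range_subset_range.mpr (by omega)), fun n => le_antisymm ?_ ?_⟩
  · refine Scheme.IdealSheafData.le_map_iff_comap_le.mp (Finset.sup_le fun l hl => (hle l).trans ?_)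
    exact Scheme.IdealSheafData.map_mono ρ (hI (Nat.lt_succ_iff.mp (Finset.mem_range.mp hl)))
  · exact (heq n).ge.trans (Scheme.IdealSheafData.comap_mono ρ
      (Finset.le_sup (f := E) (Finset.self_mem_range_succ n)))

end SmoothStrat
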