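import Groth.Agent.SmoothStrat.Avoid
import Groth.Agent.S12442
import Groth.Agent.SmoothStrat.Contract
import Groth.Agent.RichLib.LimitDescentFlat
import Groth.Prelude.Def_Mor2
import Mathlib.AlgebraicGeometry.Morphisms.UniversallyInjective

/-!
# A finite flat radicial model over a stratum through a point
-/

set_option autoImplicit false
set_option linter.style.haveILetI false
universe u
open CategoryTheory CategoryTheory.Limits AlgebraicGeometry TopologicalSpace Topology Opposite

noncomputable section

namespace SmoothStrat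

open RichLib.Strata RichLib.LimBC

variable {A : Type u} [CommRing A] (q : Ideal A) [q.IsPrime]

/-- The system of strata through `q`. -/
abbrev psys : Sys (Idx A q)ᵒᵖ (Spec (CommRingCat.of A)) :=
  sys (S := Spec (CommRingCat.of A)) A (Iso.refl _) q

theorem psys_s : (psys q).s = pointι q := Category.comp_id _

theorem psys_t (k : Idx A q) :
    (psys q).t (op k) = Spec.map (CommRingCat.ofHom (algebraMap A k.B)) := Category.comp_id _

theorem range_psys_t_anti {k k' : Idx A q} (h : k ≤ k') :
    Set.range ((psys q).t (op k')).base ⊆ Set.range ((psys q).t (op k)).base := by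
  rw [← (psys q).w (homOfLE h).op, Scheme.Hom.comp_base, TopCat.coe_comp]
  exact Set.range_comp_subset_range _ _

theorem pointι_apply (x : Spec (CommRingCat.of q.ResidueField)) :
    (pointι q).base x = (⟨q, inferInstance⟩ : PrimeSpectrum A) := by
  apply PrimeSpectrum.ext
  ext a
  show algebraMap A q.ResidueField a ∈ (show PrimeSpectrum q.ResidueField from x).asIdeal ↔ a ∈ q
  rw [Ideal.eq_bot_of_prime (show PrimeSpectrum q.ResidueField from x).asIdeal, Ideal.mem_bot,
    Ideal.algebraMap_residueField_eq_zero]

theorem exists_factor_pointι {F : Type u} [Field F] (h : Spec (CommRingCat.of F) ⟶ Spec (CommRingCat.of A))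
    (hq : ∀ p, h.base p = (⟨q, inferInstance⟩ : PrimeSpectrum A)) :
    ∃ σ, σ ≫ pointι q = h := by
  obtain ⟨φ, rfl⟩ := Spec.map_surjective h
  have hker : ∀ a, φ.hom a = 0 ↔ a ∈ q := fun a => by
    have h1 := congrArg PrimeSpectrum.asIdeal (hq (show PrimeSpectrum F from ⊥))
    rw [← show φ.hom a ∈ (⊥ : Ideal F) ↔ φ.hom a = 0 from Ideal.mem_bot]
    exact SetLike.ext_iff.mp h1 a
  refine ⟨Spec.map (CommRingCat.ofHom (Ideal.ResidueField.lift q φ.hom (fun a ha => (hker a).mpr ha)
    (fun a ha => isUnit_iff_ne_zero.mpr fun h0 => ha ((hker a).mp h0)))), ?_⟩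
  rw [← Spec.map_comp]
  congr 1
  refine CommRingCat.hom_ext (RingHom.ext fun a => ?_)
  simp

/-- A field valued point of `X ×_Y X` meeting the diagonal lies on it. -/
theorem fst_eq_snd_of_mem_range_diagonal {X Y : Scheme.{u}} (f : X ⟶ Y) {F : Type u} [Field F]
    (h : Spec (CommRingCat.of F) ⟶ pullback f f)
    (hz : ∀ p, h.base p ∈ Set.range (pullback.diagonal f).base) :
    h ≫ pullback.fst f f = h ≫ pullback.snd f f := by
  let π := pullback.snd (pullback.diagonal f) h
  haveI hs : Surjective π := ⟨fun p => by
    have : p ∈ Set.range (pullback.snd (pullback.diagonal f) h).base := by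
      rw [Scheme.Pullback.range_snd]; exact hz p
    exact this⟩
  haveI : IsClosedImmersion π := .of_isPreimmersion _ (by rw [hs.surj.range_eq]; exact isClosed_univ)
  haveI := isIso_of_isClosedImmersion_of_surjective π
  have hh : h = (inv π ≫ pullback.fst (pullback.diagonal f) h) ≫ pullback.diagonal f := by
    rw [Category.assoc, pullback.condition, IsIso.inv_hom_id_assoc]
  rw [hh]
  simp

theorem universallyInjective_specMap {L F : Type u} [Field L] [Field F] [Algebra L F]
    [IsPurelyInseparable L F] : UniversallyInjective (Spec.map (CommRingCat.ofHom (algebraMap L F))) := by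
  refine ((tfae_universallyInjective (f := Spec.map (CommRingCat.ofHom (algebraMap L F)))).out 0 1).mpr ?_
  intro M _ g₁ g₂ hg
  obtain ⟨φ₁, rfl⟩ := Spec.map_surjective g₁
  obtain ⟨φ₂, rfl⟩ := Spec.map_surjective g₂
  simp only [← Spec.map_comp] at hg
  have h1 := CommRingCat.hom_ext_iff.mp (Spec.map_injective hg)
  exact congrArg Spec.map (CommRingCat.hom_ext (IsPurelyInseparable.injective_comp_algebraMap L F M h1))

variable {K : Type u} [Field K] [Algebra q.ResidueField K] [Algebra A K] [IsScalarTower A q.ResidueField K]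
  (B : Type u) [CommRing B] [Algebra A B] [Algebra B K] [IsScalarTower A B K]
  [Algebra.IsPushout A q.ResidueField B K]

/-- The structure morphism of a model. -/
abbrev modelι : Spec (CommRingCat.of B) ⟶ Spec (CommRingCat.of A) :=
  Spec.map (CommRingCat.ofHom (algebraMap A B))

theorem isPullback_model :
    IsPullback (Spec.map (CommRingCat.ofHom (algebraMap B K))) (Spec.map (CommRingCat.ofHom (algebraMap q.ResidueField K)))
      (modelι (A := A) B) (pointι q) :=
  (isPullback_SpecMap_of_isPushout _ _ _ _ (CommRingCat.isPushout_of_isPushout A q.ResidueField B K)).flip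

variable [FiniteDimensional q.ResidueField K] [IsPurelyInseparable q.ResidueField K]

include K in
theorem exists_model_stage [Algebra.FinitePresentation A B] :
    ∃ k₀ : Idx A q, ∀ k, k₀ ≤ k →
      Surjective (pullback.snd (modelι (A := A) B) ((psys q).t (op k))) ∧
      UniversallyInjective (pullback.snd (modelι (A := A) B) ((psys q).t (op k))) ∧
      Mor2.IsFinLocFree (pullback.snd (modelι (A := A) B) ((psys q).t (op k))) := by
  let bB : Spec (CommRingCat.of B) ⟶ Spec (CommRingCat.of A) := modelι B
  haveI : LocallyOfFinitePresentation bB :=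
    (HasRingHomProperty.Spec_iff (P := @LocallyOfFinitePresentation)).mpr
      (RingHom.finitePresentation_algebraMap.mpr inferInstance)
  have sq := isPullback_model q (K := K) B
  let σK := Spec.map (CommRingCat.ofHom (algebraMap q.ResidueField K))
  haveI : IsFinite σK := (HasAffineProperty.iff_of_isAffine (P := @IsFinite)).mpr ⟨inferInstance, by
    rw [show σK.appTop = _ from rfl]
    exact RingHom.finite_respectsIso.arrow_mk_iso_iff
      (Arrow.isoMk (Scheme.ΓSpecIso _) (Scheme.ΓSpecIso _) (Scheme.ΓSpecIso_naturality _).symm)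
      |>.mpr (RingHom.finite_algebraMap.mpr inferInstance)⟩
  haveI : Flat σK := (HasRingHomProperty.Spec_iff (P := @Flat)).mpr (RingHom.flat_algebraMap_iff.mpr inferInstance)
  have hlim : ∀ (P : MorphismProperty Scheme.{u}) [P.IsStableUnderBaseChange], P σK → AtLim (psys q) bB P := by
    intro P _ hP
    show P (pullback.snd bB (psys q).s)
    have h0 : P (pullback.snd (modelι (A := A) B) (pointι q)) := by
      rw [← sq.isoPullback_inv_snd]
      exact (MorphismProperty.cancel_left_of_respectsIso P _ _).mpr hP
    rw [psys_s]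
    exact h0
  obtain ⟨i₁, h₁⟩ := exists_at_isFinite (psys q) bB (hlim @IsFinite ‹_›)
  obtain ⟨i₂, h₂⟩ := exists_at_flat (psys q) bB (hlim @Flat ‹_›)
  obtain ⟨k₁, hk₁, hk₂⟩ := exists_ge_ge i₁.unop i₂.unop
  -- the image
  obtain ⟨k₂, hk₁₂, hav₁⟩ := exists_idx_avoid q k₁ (C := (Set.range bB.base)ᶜ)
    (by rw [← Set.image_univ]; exact (Scheme.Hom.isConstructible_image bB IsConstructible.univ).compl)
    (fun hn => hn ⟨(Spec.map (CommRingCat.ofHom (algebraMap B K))).base (⊥ : PrimeSpectrum K), by
      rw [← Scheme.Hom.comp_apply, sq.w, Scheme.Hom.comp_apply]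
      exact pointι_apply q _⟩)
  -- the diagonal
  let h : pullback bB bB ⟶ Spec (CommRingCat.of A) := pullback.fst bB bB ≫ bB
  let C : Set ↥(pullback bB bB) := (Set.range (pullback.diagonal bB).base)ᶜ
  haveI : LocallyOfFinitePresentation (pullback.diagonal bB) := by
    haveI : LocallyOfFinitePresentation (pullback.diagonal bB ≫ pullback.fst bB bB) := by
      rw [pullback.diagonal_fst]; infer_instance
    exact Groth.Agent.S12442.result _ (pullback.fst bB bB)
  have hC : IsConstructible C := by
    refine IsConstructible.compl ?_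
    rw [← Set.image_univ]
    exact Scheme.Hom.isConstructible_image (pullback.diagonal bB) IsConstructible.univ
  haveI hui : UniversallyInjective σK := universallyInjective_specMap
  have hinjK : ∀ (M : Type u) [Field M], Function.Injective
      (fun g : Spec (CommRingCat.of M) ⟶ Spec (CommRingCat.of K) ↦ g ≫ σK) :=
    ((tfae_universallyInjective (f := σK)).out 0 1).mp hui
  obtain ⟨k₀, hk₂₀, hav₂⟩ := exists_idx_avoid_image q k₂ h hC (fun z hz hzq => hz (by
    let φ := (pullback bB bB).fromSpecResidueField z
    have hφ : ∀ p, φ.base p = z := fun p => Scheme.fromSpecResidueField_apply _ _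
    obtain ⟨σ, hσ⟩ := exists_factor_pointι q (F := (pullback bB bB).residueField z) (φ ≫ h) fun p => by
      rw [Scheme.Hom.comp_apply, hφ]; exact hzq
    have e₁ : (φ ≫ pullback.fst bB bB) ≫ bB = σ ≫ pointι q := by rw [hσ, Category.assoc]
    have e₂ : (φ ≫ pullback.snd bB bB) ≫ bB = σ ≫ pointι q := by
      rw [hσ, Category.assoc, ← pullback.condition]
    have he : sq.lift _ σ e₁ = sq.lift _ σ e₂ :=
      hinjK _
        ((sq.lift_snd _ _ _).trans (sq.lift_snd _ _ _).symm)
    have hfs : φ ≫ pullback.fst bB bB = φ ≫ pullback.snd bB bB :=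
      (sq.lift_fst _ _ e₁).symm.trans ((congrArg (· ≫ _) he).trans (sq.lift_fst _ _ e₂))
    have hφd : φ = (φ ≫ pullback.fst bB bB) ≫ pullback.diagonal bB := by
      apply pullback.hom_ext <;> simp [hfs]
    refine ⟨(φ ≫ pullback.fst bB bB).base (IsLocalRing.closedPoint _), ?_⟩
    rw [← Scheme.Hom.comp_apply, ← hφd]
    exact hφ _))
  refine ⟨k₀, fun k hk => ?_⟩
  let v := pullback.snd bB ((psys q).t (op k))
  have hsurj : Surjective v := ⟨fun y => by
    have hy : ((psys q).t (op k)).base y ∈ Set.range bB.base := by
      by_contra hn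
      refine Set.disjoint_left.mp hav₁ ?_ hn
      have := range_psys_t_anti q (hk₂₀.trans hk) ⟨y, rfl⟩
      rw [psys_t] at this
      exact this
    have : y ∈ Set.range (pullback.snd bB ((psys q).t (op k))).base := by
      rw [Scheme.Pullback.range_snd]; exact hy
    exact this⟩
  have hinj : UniversallyInjective v := by
    refine ((tfae_universallyInjective (f := v)).out 0 1).mpr ?_
    intro F instF g₁ g₂ hg
    let a := g₁ ≫ pullback.fst bB ((psys q).t (op k))
    let b := g₂ ≫ pullback.fst bB ((psys q).t (op k))
    have hab : a ≫ bB = b ≫ bB := by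
      simp only [a, b, Category.assoc, pullback.condition]
      rw [← Category.assoc, ← Category.assoc]
      exact congrArg (· ≫ (psys q).t (op k)) hg
    have := fst_eq_snd_of_mem_range_diagonal bB (pullback.lift a b hab) fun p => by
      by_contra hn
      refine hav₂ _ hn ?_
      have h1 : ((pullback.lift a b hab) ≫ h).base p ∈ Set.range ((psys q).t (op k)).base := by
        rw [show pullback.lift a b hab ≫ h = (g₁ ≫ v) ≫ (psys q).t (op k) by
          simp only [h, v, Category.assoc, pullback.lift_fst_assoc]
          simp only [a, Category.assoc, pullback.condition]]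
        exact ⟨_, (Scheme.Hom.comp_apply _ _ _).symm⟩
      rw [Scheme.Hom.comp_apply] at h1
      have := range_psys_t_anti q hk h1
      rwa [psys_t] at this
    rw [pullback.lift_fst, pullback.lift_snd] at this
    exact pullback.hom_ext this hg
  have hfin : IsFinite v := at_of_hom (psys q) bB (homOfLE (hk₁.trans (hk₁₂.trans (hk₂₀.trans hk)))).op h₁
  have hflat : Flat v := at_of_hom (psys q) bB (homOfLE (hk₂.trans (hk₁₂.trans (hk₂₀.trans hk)))).op h₂
  exact ⟨hsurj, hinj, hfin, hflat, inferInstance⟩

end SmoothStrat
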