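import Groth.Agent.SmoothStrat.Data
import Groth.Agent.SmoothStrat.Model
import Groth.Agent.SmoothStrat.FiniteModel
import Groth.Agent.GeomRedFieldLib.Stratify
import Groth.Agent.DepthLib.SmoothCons
import Groth.Agent.DepthLib.SmoothBCScheme

/-!
# Smooth stratifications over a stratum through a point
-/

set_option autoImplicit false
set_option linter.style.haveILetI false
universe u
open CategoryTheory CategoryTheory.Limits AlgebraicGeometry TopologicalSpace Topology Opposite

noncomputable section

namespace SmoothStrat

open RichLib.Strata RichLib.LimBC GeomRedFieldLib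

theorem smoothLocus_isConstructible {X S : Scheme.{u}} (f : X ⟶ S) [LocallyOfFinitePresentation f] [Flat f]
    [CompactSpace X] [QuasiSeparatedSpace X] : IsConstructible (f.smoothLocus : Set X) := by
  haveI : ∀ s : S, LocallyOfFinitePresentation (f.fiberToSpecResidueField s) := fun s =>
    MorphismProperty.pullback_snd _ _ ‹_›
  have : (f.smoothLocus : Set X) =
      {x : X | f.asFiber x ∈ (f.fiberToSpecResidueField (f.base x)).smoothLocus} := Set.ext fun x =>
    (DepthLib.mem_smoothLocus_iff f x).trans (and_iff_right (Flat.stalkMap f x))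
  rw [this]
  exact (DepthLib.isLocallyConstructible_smooth_fibre f).isConstructible

variable {A : Type u} [CommRing A] (q : Ideal A) [q.IsPrime]

theorem support_vanishingIdeal_eq {X : Scheme.{u}} (C : Closeds X) :
    (Scheme.IdealSheafData.vanishingIdeal C).support = C :=
  Closeds.ext (Scheme.IdealSheafData.coe_support_vanishingIdeal C)

/-- A smooth stratification exists over some stratum through each prime. -/
theorem exists_data_affine {X : Scheme.{u}} (g : X ⟶ Spec (CommRingCat.of A))
    [LocallyOfFinitePresentation g] [QuasiCompact g] [QuasiSeparated g] :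
    ∃ k : Idx A q, Data g ((psys q).t (op k)) := by
  classical
  let fκ : pullback g (pointι q) ⟶ Spec (CommRingCat.of q.ResidueField) := pullback.snd g (pointι q)
  haveI : LocallyOfFiniteType fκ := MorphismProperty.pullback_snd _ _ inferInstance
  obtain ⟨K, _, _, _, _, t, C, hC0, hCt, hanti, hC⟩ :=
    GeomRedFieldLib.exists_stratification fκ (⊤ : Closeds ↥(pullback g (pointι q)))
  letI : Algebra A K := ((algebraMap q.ResidueField K).comp (algebraMap A q.ResidueField)).toAlgebra
  haveI : IsScalarTower A q.ResidueField K := IsScalarTower.of_algebraMap_eq' rfl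
  obtain ⟨B, _, _, _, _, _, _⟩ := exists_model q K
  let bB : Spec (CommRingCat.of B) ⟶ Spec (CommRingCat.of A) := modelι B
  haveI : LocallyOfFinitePresentation bB :=
    (HasRingHomProperty.Spec_iff (P := @LocallyOfFinitePresentation)).mpr
      (RingHom.finitePresentation_algebraMap.mpr inferInstance)
  let eK : Spec (CommRingCat.of K) ⟶ Spec (CommRingCat.of B) := Spec.map (CommRingCat.ofHom (algebraMap B K))
  have sqM : IsPullback eK (str q.ResidueField K) bB (pointι q) := isPullback_model q (K := K) B
  let f' := pullback.snd g bB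
  let h : pullback g bB ⟶ Spec (CommRingCat.of A) := f' ≫ bB
  haveI : CompactSpace ↥(pullback g bB) := QuasiCompact.compactSpace_of_compactSpace f'
  haveI : QuasiSeparatedSpace ↥(pullback g bB) := quasiSeparatedSpace_of_quasiSeparated f'
  let snK := pullback.snd fκ (str q.ResidueField K)
  haveI : LocallyOfFiniteType snK := MorphismProperty.pullback_snd _ _ inferInstance
  haveI : IsLocallyNoetherian (pullback fκ (str q.ResidueField K)) :=
    LocallyOfFiniteType.isLocallyNoetherian snK
  let ρ : pullback fκ (str q.ResidueField K) ⟶ pullback g bB :=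
    pullback.lift (pullback.fst _ _ ≫ pullback.fst g (pointι q)) (snK ≫ eK) (by
      rw [Category.assoc, pullback.condition, pullback.condition_assoc, Category.assoc, sqM.w])
  have sqρ' : IsPullback ρ snK f' eK := by
    refine IsPullback.of_right ?_ (pullback.lift_snd _ _ _) (IsPullback.of_hasPullback g bB)
    rw [pullback.lift_fst, sqM.w]
    exact (IsPullback.of_hasPullback fκ (str q.ResidueField K)).paste_horiz (IsPullback.of_hasPullback g (pointι q))
  have sqρ : IsPullback ρ (snK ≫ str q.ResidueField K) h (pointι q) := sqρ'.paste_vert sqM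
  let I : ℕ → (pullback fκ (str q.ResidueField K)).IdealSheafData := fun n =>
    Scheme.IdealSheafData.vanishingIdeal (preC fκ K (C n))
  have hI : Monotone I := fun a b hab =>
    Scheme.IdealSheafData.vanishingIdeal_antimono fun x hx => hanti hab hx
  obtain ⟨E, hE, hEmono, hEρ⟩ := exists_fg_chain q sqρ I hI
  have hover : ∀ y, h.base y = (⟨q, inferInstance⟩ : PrimeSpectrum A) → ∃ u, ρ.base u = y := fun y hy => by
    obtain ⟨u, hu, -⟩ := Scheme.exists_preimage_of_isPullback sqρ y (⊥ : PrimeSpectrum q.ResidueField)
      (hy.trans (pointι_apply q _).symm)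
    exact ⟨u, hu⟩
  let z : ∀ n : Fin t, (stratum (E n.1) (E (n.1 + 1))).toScheme ⟶ Spec (CommRingCat.of B) :=
    fun n => stratumι (E n.1) (E (n.1 + 1)) ≫ f'
  have hz1 : ∀ n, LocallyOfFinitePresentation (z n) := fun n =>
    haveI := lfp_stratumι (E n.1) (E (n.1 + 1)) (hE _)
    haveI : LocallyOfFinitePresentation f' := MorphismProperty.pullback_snd _ _ inferInstance
    inferInstance
  have hz2 : ∀ n, QuasiCompact (z n) := fun n =>
    haveI := compactSpace_stratum (E n.1) (E (n.1 + 1)) (hE _)
    (quasiCompact_iff_compactSpace _).mpr inferInstance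
  have hz3 : ∀ n : Fin t, QuasiSeparatedSpace (stratum (E n.1) (E (n.1 + 1))).toScheme := fun n =>
    quasiSeparatedSpace_of_quasiSeparated (stratumι (E n.1) (E (n.1 + 1)))
  have hzK : ∀ n : Fin t, ∃ (Z' : Scheme.{u}) (a : Z' ⟶ (stratum (E n.1) (E (n.1 + 1))).toScheme)
      (zK : Z' ⟶ Spec (CommRingCat.of K)), Smooth zK ∧ IsPullback a zK (z n) eK := fun n => by
    obtain ⟨a, ha⟩ := isPullback_stratum ρ (E n.1) (E (n.1 + 1))
    refine ⟨_, a, _, ?_, ha.paste_vert sqρ'⟩
    have h1 : Smooth (stratumι (I n.1) (I (n.1 + 1)) ≫ snK) := by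
      rw [stratumι, stratum, Category.assoc, support_vanishingIdeal_eq]
      exact hC K (AlgHom.id _ K) n.1 n.2
    rw [← hEρ n.1, ← hEρ (n.1 + 1)] at h1
    exact h1
  choose Z' a zK hzsm hzsq using hzK
  -- stages
  obtain ⟨kM, hkM⟩ := exists_model_stage q (K := K) B
  have hflat : ∀ n, ∃ k : Idx A q, At (pb (psys q) bB) (z n) @Flat (op k) := fun n => by
    haveI := hz1 n
    haveI := hz2 n
    obtain ⟨i, hi⟩ := exists_at_flat (pb (psys q) bB) (z n) (by
      show Flat (pullback.snd (z n) (pullback.fst bB (psys q).s))
      have h0 : Flat (pullback.snd (z n) (pullback.fst (modelι (A := A) B) (pointι q))) := by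
        have sq' : IsPullback (a n) (zK n ≫ sqM.isoPullback.hom) (z n) (pullback.fst (modelι (A := A) B) (pointι q)) :=
          (hzsq n).of_iso (Iso.refl _) (Iso.refl _) sqM.isoPullback (Iso.refl _) (by simp) (by simp) (by simp)
            (by simp only [Iso.refl_hom, Category.comp_id]; exact sqM.isoPullback_hom_fst.symm)
        rw [← sq'.isoPullback_inv_snd]
        haveI := hzsm n
        infer_instance
      rw [psys_s]
      exact h0)
    exact ⟨i.unop, hi⟩
  choose kF hkF using hflat
  obtain ⟨k₁, hk₁⟩ := Finite.exists_le (fun o : Option (Fin t) => o.elim kM kF)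
  -- smoothness over a later stage
  have hsm : ∀ n : Fin t, ∃ k, k₁ ≤ k ∧ ∀ k', k ≤ k' →
      Smooth (pullback.snd (z n) (pullback.fst bB ((psys q).t (op k')))) := fun n => by
    haveI := hz1 n
    haveI := hz2 n
    haveI := hz3 n
    let p := pullback.fst bB ((psys q).t (op k₁))
    let zk := pullback.snd (z n) p
    haveI : Flat zk := at_of_hom (pb (psys q) bB) (z n) (homOfLE (hk₁ (some n))).op (hkF n)
    haveI : IsPreimmersion ((psys q).t (op k₁)) := isPreimmersion_t _ _ _ _
    haveI : IsPreimmersion p := inferInstance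
    haveI : IsAffineHom p := MorphismProperty.pullback_fst _ _ ((psys q).affine (op k₁))
    haveI : IsAffineHom (pullback.fst (z n) p) := MorphismProperty.pullback_fst _ _ ‹_›
    haveI : CompactSpace (stratum (E n.1) (E (n.1 + 1))).toScheme :=
      compactSpace_stratum (E n.1) (E (n.1 + 1)) (hE _)
    haveI : CompactSpace ↥(pullback (z n) p) :=
      QuasiCompact.compactSpace_of_compactSpace (pullback.fst (z n) p)
    haveI : QuasiSeparatedSpace ↥(pullback (z n) p) :=
      quasiSeparatedSpace_of_quasiSeparated (pullback.fst (z n) p)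
    haveI : LocallyOfFinitePresentation p := by
      haveI := locallyOfFinitePresentation_t A (Iso.refl (Spec (CommRingCat.of A))) q (op k₁)
      exact MorphismProperty.pullback_fst _ _ this
    let hk : pullback (z n) p ⟶ Spec (CommRingCat.of A) := zk ≫ p ≫ bB
    let πK : Spec (CommRingCat.of q.ResidueField) ⟶ (psys q).D.obj (op k₁) := (psys q).c.π.app (op k₁)
    have hπK : πK ≫ (psys q).t (op k₁) = pointι q := ((psys q).hs (op k₁)).trans (psys_s q)
    let eT : Spec (CommRingCat.of K) ⟶ pullback bB ((psys q).t (op k₁)) :=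
      pullback.lift eK (str q.ResidueField K ≫ πK) (by rw [Category.assoc, hπK, sqM.w])
    have heT : eT ≫ p = eK := pullback.lift_fst _ _ _
    let aZ : Z' n ⟶ pullback (z n) p := pullback.lift (a n) (zK n ≫ eT) (by
      rw [Category.assoc, heT, (hzsq n).w])
    have sqZ : IsPullback aZ (zK n) zk eT := by
      refine IsPullback.of_right ?_ (pullback.lift_snd _ _ _) (IsPullback.of_hasPullback (z n) p)
      rw [pullback.lift_fst, heT]
      exact hzsq n
    obtain ⟨k, hk', hav⟩ := exists_idx_avoid_image q k₁ hk (C := (zk.smoothLocus : Set _)ᶜ)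
      (smoothLocus_isConstructible zk).compl (fun w hw hwq => hw (by
        have h1 : bB.base ((p.base) (zk.base w)) = (⟨q, inferInstance⟩ : PrimeSpectrum A) := by
          rw [← Scheme.Hom.comp_apply, ← Scheme.Hom.comp_apply]; exact hwq
        obtain ⟨r, hr, -⟩ := Scheme.exists_preimage_of_isPullback sqM (p.base (zk.base w))
          (⊥ : PrimeSpectrum q.ResidueField) (h1.trans (pointι_apply q _).symm)
        obtain ⟨v, hv, -⟩ := Scheme.exists_preimage_of_isPullback (hzsq n) ((pullback.fst (z n) p).base w) r
          (by rw [← Scheme.Hom.comp_apply, pullback.condition, Scheme.Hom.comp_apply]; exact hr.symm)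
        have hwv : aZ.base v = w := by
          apply (pullback.fst (z n) p).isEmbedding.injective
          rw [← Scheme.Hom.comp_apply, pullback.lift_fst]
          exact hv
        haveI := hzsm n
        have hloc := DepthLib.smoothLocus_eq_preimage zk eT (zK n) aZ sqZ (Or.inl ‹_›)
        rw [Scheme.Hom.smoothLocus_eq_top] at hloc
        have : v ∈ aZ ⁻¹ᵁ zk.smoothLocus := hloc ▸ trivial
        rw [← hwv]
        exact this))
    refine ⟨k, hk', fun k' hkk' => ?_⟩
    let zk' := pullback.snd (z n) (pullback.fst bB ((psys q).t (op k')))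
    let φ := (homOfLE (hk'.trans hkk')).op
    let δ : pullback bB ((psys q).t (op k')) ⟶ pullback bB ((psys q).t (op k₁)) := (pb (psys q) bB).D.map φ
    have hδ : δ ≫ p = pullback.fst bB ((psys q).t (op k')) := (pb (psys q) bB).w φ
    let μ : pullback (z n) (pullback.fst bB ((psys q).t (op k'))) ⟶ pullback (z n) p :=
      pbMap (pb (psys q) bB) (z n) φ
    have sqm : IsPullback μ zk' zk δ := isPullback_map (pb (psys q) bB) (z n) φ
    haveI : IsPreimmersion ((psys q).t (op k')) := isPreimmersion_t _ _ _ _
    haveI : Flat zk' := at_of_hom (pb (psys q) bB) (z n) φ ‹Flat zk›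
    haveI : LocallyOfFinitePresentation zk' := MorphismProperty.pullback_snd _ _ inferInstance
    rw [← Scheme.Hom.smoothLocus_eq_top_iff]
    show zk'.smoothLocus = ⊤
    rw [DepthLib.smoothLocus_eq_preimage zk _ zk' _ sqm (Or.inl ‹_›), eq_top_iff]
    intro w _
    by_contra hn
    refine hav _ hn ?_
    have hcomp : μ ≫ hk = (zk' ≫ pullback.snd bB ((psys q).t (op k'))) ≫ (psys q).t (op k') := by
      show μ ≫ zk ≫ p ≫ bB = _
      rw [reassoc_of% sqm.w, reassoc_of% hδ, pullback.condition, Category.assoc]
    have hw : hk.base (μ.base w) ∈ Set.range ((psys q).t (op k')).base := by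
      rw [← Scheme.Hom.comp_apply, hcomp, Scheme.Hom.comp_apply]
      exact ⟨_, rfl⟩
    have := range_psys_t_anti q hkk' hw
    rwa [psys_t] at this
  choose kS hkS₁ hkS using hsm
  have hh : LocallyOfFinitePresentation h := by
    haveI : LocallyOfFinitePresentation f' := MorphismProperty.pullback_snd _ _ inferInstance
    infer_instance
  obtain ⟨kA, hkA, havA⟩ := exists_idx_avoid_image q k₁ h (C := ((E 0).support : Set _)ᶜ)
    (isConstructible_support _ (hE 0)).compl (fun y hy hyq => hy (by
      obtain ⟨v, rfl⟩ := hover y hyq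
      have : v ∈ ((E 0).comap ρ).support := by
        rw [hEρ, support_vanishingIdeal_eq, hC0]
        exact trivial
      rw [Scheme.IdealSheafData.support_comap] at this
      exact this))
  obtain ⟨kB, hkB, havB⟩ := exists_idx_avoid_image q k₁ h (C := ((E t).support : Set _))
    (isConstructible_support _ (hE t)) (fun y hy hyq => by
      obtain ⟨v, rfl⟩ := hover y hyq
      have : v ∈ ((E t).comap ρ).support := by
        rw [Scheme.IdealSheafData.support_comap]; exact hy
      rw [hEρ, support_vanishingIdeal_eq, hCt] at this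
      exact this)
  obtain ⟨k, hk⟩ := Finite.exists_le (fun o : Bool ⊕ Fin t => o.elim (fun b => bif b then kA else kB) kS)
  have hkA' : kA ≤ k := hk (Sum.inl true)
  have hkB' : kB ≤ k := hk (Sum.inl false)
  obtain ⟨hsurj, hui, hflf⟩ := hkM k ((hk₁ none).trans (hkA.trans hkA'))
  let p := pullback.fst bB ((psys q).t (op k))
  let v := pullback.snd bB ((psys q).t (op k))
  let m : pullback g (v ≫ (psys q).t (op k)) ⟶ pullback g bB :=
    pullback.lift (pullback.fst _ _) (pullback.snd _ _ ≫ p)
      (by rw [pullback.condition, Category.assoc, pullback.condition])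
  have hm : IsPullback m (pullback.snd g (v ≫ (psys q).t (op k))) f' p :=
    IsPullback.of_right (h₁₂ := pullback.fst g bB) (v₁₃ := g) (h₂₂ := bB)
      (by rw [pullback.lift_fst, show p ≫ bB = v ≫ (psys q).t (op k) from pullback.condition]
          exact IsPullback.of_hasPullback _ _)
      (pullback.lift_snd _ _ _) (IsPullback.of_hasPullback _ _)
  have hav : ∀ {k₂ : Idx A q}, k₂ ≤ k → ∀ y, h.base (m.base y) ∈
      Set.range (Spec.map (CommRingCat.ofHom (algebraMap A k₂.B))).base := fun {k₂} hk₂ y => by
    rw [← psys_t]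
    refine range_psys_t_anti q hk₂ ?_
    rw [← Scheme.Hom.comp_apply, show m ≫ h = (pullback.snd g (v ≫ (psys q).t (op k)) ≫ v) ≫ (psys q).t (op k) by
      show m ≫ f' ≫ bB = _
      rw [← Category.assoc, hm.w, Category.assoc, Category.assoc,
        show p ≫ bB = v ≫ (psys q).t (op k) from pullback.condition], Scheme.Hom.comp_apply]
    exact ⟨_, rfl⟩
  refine ⟨k, pullback bB ((psys q).t (op k)), v, hsurj, hui, hflf, t, fun j => (E j.1).comap m,
    fun a b hab => Scheme.IdealSheafData.comap_mono m (hEmono hab), ?_, ?_, fun j O => fg_comap _ (hE _) m O,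
    fun j => ?_⟩
  · rw [← Scheme.IdealSheafData.support_eq_bot_iff]
    refine Closeds.ext (Set.eq_empty_of_forall_notMem fun y hy => ?_)
    rw [Scheme.IdealSheafData.support_comap] at hy
    exact havB _ hy (hav hkB' y)
  · rw [Set.eq_univ_iff_forall]
    intro y
    show y ∈ ((E 0).comap m).support
    rw [Scheme.IdealSheafData.support_comap]
    by_contra hy
    exact havA _ hy (hav hkA' y)
  · obtain ⟨b, hb⟩ := isPullback_stratum m (E j.1) (E (j.1 + 1))
    have sq' := hb.paste_vert hm
    have h1 : Smooth (pullback.snd (z j) p) := hkS j k (hk (Sum.inr j))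
    have h2 : Smooth (stratumι ((E j.1).comap m) ((E (j.1 + 1)).comap m) ≫ pullback.snd g (v ≫ (psys q).t (op k))) := by
      rw [← sq'.isoPullback_hom_snd]
      exact (MorphismProperty.cancel_left_of_respectsIso (@Smooth) _ _).mpr h1
    simpa only [Category.assoc, Fin.val_castSucc, Fin.val_succ] using h2

end SmoothStrat
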